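import Cfsg.Agent.Lib.F4TwoMult.Data

set_option autoImplicit false
set_option maxRecDepth 20000

namespace Cfsg.Agent.F4TwoMult

theorem cert_check : cert.check 2 = true := by decide +kernel

end Cfsg.Agent.F4TwoMult
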