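import Cfsg.Agent.Lib.F4TwoMult.Rels

/-!
The double cover of the unipotent group of F₄(2) as a group of permutations of sixteen points paired with the
group, and its invariance under each simple reflection.
-/

set_option autoImplicit false
set_option maxRecDepth 20000

namespace Cfsg.Agent.F4TwoMult

open Cfsg.Lie Cfsg.Agent.Chev
open Schur.StableCert (prodW shape_iff card_closure_le prodW_append)

instance factTwo : Fact (Nat.Prime 2) := ⟨Nat.prime_two⟩

/-- The field with two elements. -/
abbrev K2 : Type := ZMod 2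

/-- F₄(2). -/
abbrev G2el : Type := ↥(chevF4.group K2)

/-- The table of a point map; the last one exchanges the sheets. -/
def permTab (i : ℕ) : List ℕ :=
  if i < 24 then perms.getD i [] else if i = 24 then (List.range 16).map (fun q => q + 1 - 2 * (q % 2)) else []

/-- The point map. -/
def pfun (i : ℕ) (q : Fin 16) : Fin 16 := ⟨(permTab i).getD q.val q.val % 16, Nat.mod_lt _ (by norm_num)⟩

theorem pfun_four : ∀ i < 25, ∀ q : Fin 16, pfun i (pfun i (pfun i (pfun i q))) = q := by decide +kernel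

/-- The permutations. -/
def pm (i : ℕ) : Equiv.Perm (Fin 16) :=
  if h : i < 25 then
    { toFun := pfun i
      invFun := fun q => pfun i (pfun i (pfun i q))
      left_inv := pfun_four i h
      right_inv := pfun_four i h }
  else 1

theorem pm_apply {i : ℕ} (h : i < 25) (q : Fin 16) : pm i q = pfun i q := by rw [pm, dif_pos h]; rfl

/-- Application of a word. -/
def wfun (w : List ℕ) (q : Fin 16) : Fin 16 := w.foldr pfun q

theorem prodW_pm {w : List ℕ} (hw : ∀ i ∈ w, i < 25) (q : Fin 16) : prodW pm w q = wfun w q := by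
  induction w with
  | nil => rfl
  | cons i w ih =>
    rw [Schur.StableCert.prodW_cons, Equiv.Perm.mul_apply, ih fun j hj => hw j (List.mem_cons_of_mem _ hj),
      pm_apply (hw i List.mem_cons_self)]
    rfl

/-- Two words have the same permutation. -/
def wordsEq (r : List ℕ × List ℕ) : Bool :=
  r.1.all (fun i => decide (i < 25)) && r.2.all (fun i => decide (i < 25)) &&
    decide (∀ q : Fin 16, wfun r.1 q = wfun r.2 q)

theorem prodW_pm_eq {r : List ℕ × List ℕ} (h : wordsEq r = true) : prodW pm r.1 = prodW pm r.2 := by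
  simp only [wordsEq, Bool.and_eq_true, List.all_eq_true, decide_eq_true_eq] at h
  exact Equiv.ext fun q => by rw [prodW_pm h.1.1, prodW_pm h.1.2, h.2 q]

/-- The rules of the cover; generator `24` is the kernel. -/
def extRules : List (List ℕ × List ℕ) :=
  sylRules.zipWith (fun r t => (r.1, r.2 ++ List.replicate t 24)) tails ++
    ([24, 24], []) :: (List.range 24).map fun i => ([24, i], [i, 24])

/-- The rules as a certificate. -/
def extCert : Schur.StableCert.Cert where
  rules := extRules
  n := 25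
  sylRules := extRules.length
  eqs := []
  adj := []
  sel := []
  extra := []

theorem extCert_shape : extCert.shape 2 = true := by decide +kernel

theorem extRules_ok : extRules.all wordsEq = true := by decide +kernel

/-- The generators projected to the group. -/
noncomputable def gx (i : ℕ) : G2el := if i < 24 then gw K2 i else 1

theorem gx_of_lt {i : ℕ} (h : i < 24) : gx i = gw K2 i := if_pos h

theorem prodW_gx {w : List ℕ} (h : ∀ i ∈ w, i < 24) : prodW gx w = prodW (gw K2) w :=
  Schur.StableCert.prodW_congr w fun i hi => gx_of_lt (h i hi)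

/-- The generators of the cover. -/
noncomputable def gE (i : ℕ) : Equiv.Perm (Fin 16) × G2el := (pm i, gx i)

theorem prodW_gE (w : List ℕ) : prodW gE w = (prodW pm w, prodW gx w) :=
  Prod.ext (Schur.StableCert.map_prodW (MonoidHom.fst _ _) gE w)
    (Schur.StableCert.map_prodW (MonoidHom.snd _ _) gE w)

theorem sylRules_lt : ∀ r ∈ sylRules, (∀ i ∈ r.1, i < 24) ∧ ∀ i ∈ r.2, i < 24 := by decide +kernel

theorem gx_rel : ∀ r ∈ extRules, prodW gx r.1 = prodW gx r.2 := by
  intro r hr
  have h24 : gx 24 = 1 := if_neg (lt_irrefl _)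
  simp only [extRules, List.mem_append, List.mem_cons, List.mem_map] at hr
  rcases hr with hr | rfl | ⟨i, -, rfl⟩
  · obtain ⟨j, hj, rfl⟩ := List.getElem_of_mem hr
    rw [List.getElem_zipWith]
    have hj' : j < sylRules.length := by rw [List.length_zipWith] at hj; omega
    have hr' := List.getElem_mem hj'
    obtain ⟨h1, h2⟩ := sylRules_lt _ hr'
    rw [prodW_append, prodW_gx h1, prodW_gx h2, sylRules_rel K2 _ hr',
      show prodW gx (List.replicate _ 24) = 1 by simp [prodW, h24], mul_one]
  · simp [prodW, h24]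
  · simp [prodW, h24]

theorem gE_rel : ∀ r ∈ extRules, prodW gE r.1 = prodW gE r.2 := fun r hr => by
  rw [prodW_gE, prodW_gE, prodW_pm_eq (List.all_eq_true.1 extRules_ok r hr), gx_rel r hr]

/-- The cover. -/
noncomputable def LU : Subgroup (Equiv.Perm (Fin 16) × G2el) := Subgroup.closure (gE '' Set.Iio 25)

theorem shape_hyps {E : Type} [Group E] {C : Schur.StableCert.Cert} {g : ℕ → E} (hs : C.shape 2 = true)
    (hrel : ∀ r ∈ C.rules, prodW g r.1 = prodW g r.2) :
    (∀ i < C.n, ∃ w : List ℕ, (∀ x ∈ w, i < x ∧ x < C.n) ∧ g i ^ 2 = prodW g w) ∧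
      ∀ i j, i < j → j < C.n → ∃ w : List ℕ, (∀ x ∈ w, i < x ∧ x < C.n) ∧ g j * g i = g i * prodW g w := by
  obtain ⟨hlt, hpw, hcm⟩ := shape_iff hs
  have hr : ∀ k < C.sylRules, prodW g (C.rules.getD k ([], [])).1 = prodW g (C.rules.getD k ([], [])).2 :=
    fun k hk => hrel _ (by rw [List.getD_eq_getElem _ _ (hlt k hk).1]; exact List.getElem_mem _)
  refine ⟨fun i hi => ?_, fun i j hij hj => ?_⟩
  · obtain ⟨k, hk, e, hw⟩ := hpw i hi
    refine ⟨_, fun x hx => ⟨hw x hx, (hlt k hk).2.2 x hx⟩, ?_⟩
    rw [← hr k hk, e]; simp [prodW, pow_two]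
  · obtain ⟨k, hk, w, e, hw⟩ := hcm i j hij hj
    refine ⟨w, fun x hx => ⟨hw x hx, (hlt k hk).2.2 x (by rw [e]; exact List.mem_cons_of_mem _ hx)⟩, ?_⟩
    have := hr k hk
    rw [e] at this
    simpa [prodW] using this

instance finiteG2el : Finite G2el := inferInstance

theorem card_LU_le : Nat.card LU ≤ 2 ^ 25 :=
  card_closure_le gE two_pos (shape_hyps extCert_shape gE_rel).1 (shape_hyps extCert_shape gE_rel).2

theorem gE_mem {i : ℕ} (h : i < 25) : gE i ∈ LU := Subgroup.subset_closure ⟨i, h, rfl⟩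

/-- The projection. -/
noncomputable def pLU : LU →* G2el := (MonoidHom.snd _ _).comp LU.subtype

theorem range_pLU : pLU.range = posU K2 := by
  rw [pLU, MonoidHom.range_comp, Subgroup.range_subtype, LU, MonoidHom.map_closure,
    ← closure_gw (F := K2) (ZMod.card 2)]
  refine le_antisymm ((Subgroup.closure_le _).2 ?_) ((Subgroup.closure_le _).2 ?_)
  · rintro _ ⟨_, ⟨i, hi, rfl⟩, rfl⟩
    show gx i ∈ _
    by_cases h : i < 24
    · rw [gx_of_lt h]; exact Subgroup.subset_closure ⟨i, h, rfl⟩
    · rw [gx, if_neg h]; exact Subgroup.one_mem _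
  · rintro _ ⟨i, hi, rfl⟩
    rw [Set.mem_Iio] at hi
    exact Subgroup.subset_closure ⟨gE i, ⟨i, show i < 25 by omega, rfl⟩, gx_of_lt hi⟩

/-- The kernel element. -/
noncomputable def zLU : LU := ⟨gE 24, gE_mem (by norm_num)⟩

theorem zLU_ne_one : zLU ≠ 1 := fun h => by
  have h2 := congrArg (fun x : LU => x.1.1 0) h
  change pm 24 0 = 0 at h2
  rw [pm_apply (by norm_num)] at h2
  revert h2
  decide

theorem pLU_zLU : pLU zLU = 1 := show gx 24 = 1 from if_neg (lt_irrefl _)

theorem card_ker_pLU : Nat.card pLU.ker = 2 := by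
  have e := pLU.ker.card_mul_index
  rw [Subgroup.index_ker, range_pLU, card_posU (F := K2) (ZMod.card 2)] at e
  have h1 := card_LU_le
  rw [← e] at h1
  have h3 : 1 < Nat.card pLU.ker := by
    rw [Subgroup.one_lt_card_iff_ne_bot]
    intro h
    exact zLU_ne_one (Subgroup.mem_bot.1 (h ▸ (show zLU ∈ pLU.ker from pLU_zLU)))
  rw [show (2 : ℕ) ^ 25 = 2 * 2 ^ 24 from pow_succ' 2 24] at h1
  have h2 := Nat.le_of_mul_le_mul_right h1 (pow_pos two_pos 24)
  exact le_antisymm h2 h3

theorem eq_zLU_of_mem {c : LU} (h : c ∈ pLU.ker) : c = 1 ∨ c = zLU := by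
  obtain ⟨a, b, hab, hu⟩ := (Nat.card_eq_two_iff (α := pLU.ker)).1 card_ker_pLU
  have hz : (⟨zLU, pLU_zLU⟩ : pLU.ker) ∈ ({a, b} : Set _) := hu ▸ Set.mem_univ _
  have h1 : (1 : pLU.ker) ∈ ({a, b} : Set _) := hu ▸ Set.mem_univ _
  have hc : (⟨c, h⟩ : pLU.ker) ∈ ({a, b} : Set _) := hu ▸ Set.mem_univ _
  have hne : (⟨zLU, pLU_zLU⟩ : pLU.ker) ≠ 1 := fun e => zLU_ne_one (congrArg Subtype.val e)
  simp only [Set.mem_insert_iff, Set.mem_singleton_iff] at hz h1 hc
  rcases hz with e | e <;> rcases h1 with e1 | e1 <;> rcases hc with e2 | e2 <;>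
    first
      | exact absurd (e.trans e1.symm) hne
      | exact Or.inl (congrArg Subtype.val (e2.trans e1.symm))
      | exact Or.inr (congrArg Subtype.val (e2.trans e.symm))

theorem ker_le_center : pLU.ker ≤ Subgroup.center LU := by
  intro c hc
  rcases eq_zLU_of_mem hc with rfl | rfl
  · exact Subgroup.one_mem _
  rw [Subgroup.mem_center_iff]
  rintro ⟨g, hg⟩
  refine Subtype.ext ?_
  have hle : LU ≤ Subgroup.centralizer {gE 24} := by
    rw [LU, Subgroup.closure_le]
    rintro _ ⟨i, hi, rfl⟩ y hy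
    rw [Set.mem_singleton_iff] at hy
    subst hy
    rcases Nat.lt_or_ge i 24 with h | h
    · have := gE_rel ([24, i], [i, 24]) (List.mem_append_right _
        (List.mem_cons_of_mem _ (List.mem_map.2 ⟨i, List.mem_range.2 h, rfl⟩)))
      simpa [prodW] using this
    · rw [show i = 24 by rw [Set.mem_Iio] at hi; omega]
  exact (hle hg (gE 24) rfl).symm

end Cfsg.Agent.F4TwoMult
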