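/-
Generated data for the Schur multiplier of F₄(2): the rules of the unipotent group on the 24 positive root elements
(generator `i` is root `24 + i`), tails of the stable double cover, its monomial form on 8 cosets, lifts of the simple
reflections, and the certificate that no other class is stable.
-/
import Cfsg.Agent.Lib.Schur.StableCert

set_option autoImplicit false
set_option maxRecDepth 20000

namespace Cfsg.Agent.F4TwoMult

def sylRules : List (List ℕ × List ℕ) := [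
  ([0, 0],[]), ([1, 1],[]), ([2, 2],[]), ([3, 3],[]),
  ([4, 4],[]), ([5, 5],[]), ([6, 6],[]), ([7, 7],[]),
  ([8, 8],[]), ([9, 9],[]), ([10, 10],[]), ([11, 11],[]),
  ([12, 12],[]), ([13, 13],[]), ([14, 14],[]), ([15, 15],[]),
  ([16, 16],[]), ([17, 17],[]), ([18, 18],[]), ([19, 19],[]),
  ([20, 20],[]), ([21, 21],[]), ([22, 22],[]), ([23, 23],[]),
  ([1, 0],[0, 1, 2]), ([2, 0],[0, 2]), ([3, 0],[0, 3]), ([4, 0],[0, 4, 5, 8]),
  ([5, 0],[0, 5]), ([6, 0],[0, 6, 7]), ([7, 0],[0, 7]), ([8, 0],[0, 8]),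
  ([9, 0],[0, 9]), ([10, 0],[0, 10]), ([11, 0],[0, 11, 12, 19]), ([12, 0],[0, 12]),
  ([13, 0],[0, 13, 14, 21]), ([14, 0],[0, 14]), ([15, 0],[0, 15]), ([16, 0],[0, 16]),
  ([17, 0],[0, 17, 18]), ([18, 0],[0, 18]), ([19, 0],[0, 19]), ([20, 0],[0, 20]),
  ([21, 0],[0, 21]), ([22, 0],[0, 22, 23]), ([23, 0],[0, 23]), ([2, 1],[1, 2]),
  ([3, 1],[1, 3, 4, 6]), ([4, 1],[1, 4]), ([5, 1],[1, 5]), ([6, 1],[1, 6]),
  ([7, 1],[1, 7, 8]), ([8, 1],[1, 8]), ([9, 1],[1, 9]), ([10, 1],[1, 10, 11, 17]),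
  ([11, 1],[1, 11]), ([12, 1],[1, 12]), ([13, 1],[1, 13]), ([14, 1],[1, 14, 15, 23]),
  ([15, 1],[1, 15]), ([16, 1],[1, 16]), ([17, 1],[1, 17]), ([18, 1],[1, 18, 19]),
  ([19, 1],[1, 19]), ([20, 1],[1, 20]), ([21, 1],[1, 21, 22]), ([22, 1],[1, 22]),
  ([23, 1],[1, 23]), ([3, 2],[2, 3, 5, 7]), ([4, 2],[2, 4]), ([5, 2],[2, 5]),
  ([6, 2],[2, 6, 8]), ([7, 2],[2, 7]), ([8, 2],[2, 8]), ([9, 2],[2, 9]),
  ([10, 2],[2, 10, 12, 18]), ([11, 2],[2, 11]), ([12, 2],[2, 12]), ([13, 2],[2, 13, 15, 22]),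
  ([14, 2],[2, 14]), ([15, 2],[2, 15]), ([16, 2],[2, 16]), ([17, 2],[2, 17, 19]),
  ([18, 2],[2, 18]), ([19, 2],[2, 19]), ([20, 2],[2, 20]), ([21, 2],[2, 21, 23]),
  ([22, 2],[2, 22]), ([23, 2],[2, 23]), ([4, 3],[3, 4]), ([5, 3],[3, 5]),
  ([6, 3],[3, 6]), ([7, 3],[3, 7]), ([8, 3],[3, 8]), ([9, 3],[3, 9, 10]),
  ([10, 3],[3, 10]), ([11, 3],[3, 11, 13]), ([12, 3],[3, 12, 14]), ([13, 3],[3, 13]),
  ([14, 3],[3, 14]), ([15, 3],[3, 15, 16]), ([16, 3],[3, 16]), ([17, 3],[3, 17]),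
  ([18, 3],[3, 18]), ([19, 3],[3, 19, 20, 21]), ([20, 3],[3, 20]), ([21, 3],[3, 21]),
  ([22, 3],[3, 22]), ([23, 3],[3, 23]), ([5, 4],[4, 5]), ([6, 4],[4, 6]),
  ([7, 4],[4, 7]), ([8, 4],[4, 8]), ([9, 4],[4, 9, 11]), ([10, 4],[4, 10, 13]),
  ([11, 4],[4, 11]), ([12, 4],[4, 12, 15]), ([13, 4],[4, 13]), ([14, 4],[4, 14, 16]),
  ([15, 4],[4, 15]), ([16, 4],[4, 16]), ([17, 4],[4, 17]), ([18, 4],[4, 18, 20, 22]),
  ([19, 4],[4, 19]), ([20, 4],[4, 20]), ([21, 4],[4, 21]), ([22, 4],[4, 22]),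
  ([23, 4],[4, 23]), ([6, 5],[5, 6]), ([7, 5],[5, 7]), ([8, 5],[5, 8]),
  ([9, 5],[5, 9, 12]), ([10, 5],[5, 10, 14]), ([11, 5],[5, 11, 15]), ([12, 5],[5, 12]),
  ([13, 5],[5, 13, 16]), ([14, 5],[5, 14]), ([15, 5],[5, 15]), ([16, 5],[5, 16]),
  ([17, 5],[5, 17, 20, 23]), ([18, 5],[5, 18]), ([19, 5],[5, 19]), ([20, 5],[5, 20]),
  ([21, 5],[5, 21]), ([22, 5],[5, 22]), ([23, 5],[5, 23]), ([7, 6],[6, 7]),
  ([8, 6],[6, 8]), ([9, 6],[6, 9, 13, 17]), ([10, 6],[6, 10]), ([11, 6],[6, 11]),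
  ([12, 6],[6, 12, 16, 23]), ([13, 6],[6, 13]), ([14, 6],[6, 14]), ([15, 6],[6, 15]),
  ([16, 6],[6, 16]), ([17, 6],[6, 17]), ([18, 6],[6, 18, 21]), ([19, 6],[6, 19, 22]),
  ([20, 6],[6, 20]), ([21, 6],[6, 21]), ([22, 6],[6, 22]), ([23, 6],[6, 23]),
  ([8, 7],[7, 8]), ([9, 7],[7, 9, 14, 18]), ([10, 7],[7, 10]), ([11, 7],[7, 11, 16, 22]),
  ([12, 7],[7, 12]), ([13, 7],[7, 13]), ([14, 7],[7, 14]), ([15, 7],[7, 15]),
  ([16, 7],[7, 16]), ([17, 7],[7, 17, 21]), ([18, 7],[7, 18]), ([19, 7],[7, 19, 23]),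
  ([20, 7],[7, 20]), ([21, 7],[7, 21]), ([22, 7],[7, 22]), ([23, 7],[7, 23]),
  ([9, 8],[8, 9, 15, 19]), ([10, 8],[8, 10, 16, 21]), ([11, 8],[8, 11]), ([12, 8],[8, 12]),
  ([13, 8],[8, 13]), ([14, 8],[8, 14]), ([15, 8],[8, 15]), ([16, 8],[8, 16]),
  ([17, 8],[8, 17, 22]), ([18, 8],[8, 18, 23]), ([19, 8],[8, 19]), ([20, 8],[8, 20]),
  ([21, 8],[8, 21]), ([22, 8],[8, 22]), ([23, 8],[8, 23]), ([10, 9],[9, 10]),
  ([11, 9],[9, 11]), ([12, 9],[9, 12]), ([13, 9],[9, 13]), ([14, 9],[9, 14]),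
  ([15, 9],[9, 15]), ([16, 9],[9, 16, 20]), ([17, 9],[9, 17]), ([18, 9],[9, 18]),
  ([19, 9],[9, 19]), ([20, 9],[9, 20]), ([21, 9],[9, 21]), ([22, 9],[9, 22]),
  ([23, 9],[9, 23]), ([11, 10],[10, 11]), ([12, 10],[10, 12]), ([13, 10],[10, 13]),
  ([14, 10],[10, 14]), ([15, 10],[10, 15, 20]), ([16, 10],[10, 16]), ([17, 10],[10, 17]),
  ([18, 10],[10, 18]), ([19, 10],[10, 19]), ([20, 10],[10, 20]), ([21, 10],[10, 21]),
  ([22, 10],[10, 22]), ([23, 10],[10, 23]), ([12, 11],[11, 12]), ([13, 11],[11, 13]),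
  ([14, 11],[11, 14, 20]), ([15, 11],[11, 15]), ([16, 11],[11, 16]), ([17, 11],[11, 17]),
  ([18, 11],[11, 18]), ([19, 11],[11, 19]), ([20, 11],[11, 20]), ([21, 11],[11, 21]),
  ([22, 11],[11, 22]), ([23, 11],[11, 23]), ([13, 12],[12, 13, 20]), ([14, 12],[12, 14]),
  ([15, 12],[12, 15]), ([16, 12],[12, 16]), ([17, 12],[12, 17]), ([18, 12],[12, 18]),
  ([19, 12],[12, 19]), ([20, 12],[12, 20]), ([21, 12],[12, 21]), ([22, 12],[12, 22]),
  ([23, 12],[12, 23]), ([14, 13],[13, 14]), ([15, 13],[13, 15]), ([16, 13],[13, 16]),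
  ([17, 13],[13, 17]), ([18, 13],[13, 18]), ([19, 13],[13, 19]), ([20, 13],[13, 20]),
  ([21, 13],[13, 21]), ([22, 13],[13, 22]), ([23, 13],[13, 23]), ([15, 14],[14, 15]),
  ([16, 14],[14, 16]), ([17, 14],[14, 17]), ([18, 14],[14, 18]), ([19, 14],[14, 19]),
  ([20, 14],[14, 20]), ([21, 14],[14, 21]), ([22, 14],[14, 22]), ([23, 14],[14, 23]),
  ([16, 15],[15, 16]), ([17, 15],[15, 17]), ([18, 15],[15, 18]), ([19, 15],[15, 19]),
  ([20, 15],[15, 20]), ([21, 15],[15, 21]), ([22, 15],[15, 22]), ([23, 15],[15, 23]),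
  ([17, 16],[16, 17]), ([18, 16],[16, 18]), ([19, 16],[16, 19]), ([20, 16],[16, 20]),
  ([21, 16],[16, 21]), ([22, 16],[16, 22]), ([23, 16],[16, 23]), ([18, 17],[17, 18]),
  ([19, 17],[17, 19]), ([20, 17],[17, 20]), ([21, 17],[17, 21]), ([22, 17],[17, 22]),
  ([23, 17],[17, 23]), ([19, 18],[18, 19]), ([20, 18],[18, 20]), ([21, 18],[18, 21]),
  ([22, 18],[18, 22]), ([23, 18],[18, 23]), ([20, 19],[19, 20]), ([21, 19],[19, 21]),
  ([22, 19],[19, 22]), ([23, 19],[19, 23]), ([21, 20],[20, 21]), ([22, 20],[20, 22]),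
  ([23, 20],[20, 23]), ([22, 21],[21, 22]), ([23, 21],[21, 23]), ([23, 22],[22, 23])]

def tails : List ℕ := [
  0, 0, 0, 0, 0, 0, 0, 0, 0, 0, 0, 0, 0, 0, 0, 0, 0, 0, 0, 0, 0, 0, 0, 0, 0, 0, 0, 0, 0, 0,
  0, 0, 0, 0, 0, 0, 0, 0, 0, 0, 0, 0, 0, 0, 0, 1, 0, 0, 0, 0, 0, 0, 0, 0, 0, 0, 0, 0, 0, 0,
  0, 0, 0, 0, 0, 0, 0, 0, 0, 0, 0, 0, 0, 0, 0, 0, 0, 0, 0, 1, 0, 0, 0, 0, 0, 0, 0, 1, 0, 0,
  0, 0, 0, 0, 0, 0, 0, 0, 0, 0, 0, 0, 0, 0, 0, 0, 0, 0, 0, 0, 0, 0, 0, 0, 0, 0, 0, 0, 0, 0,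
  0, 0, 0, 1, 0, 0, 0, 0, 0, 0, 0, 0, 1, 0, 0, 0, 0, 0, 0, 0, 0, 0, 0, 0, 0, 0, 0, 0, 0, 0,
  0, 0, 0, 0, 0, 0, 0, 0, 1, 0, 0, 0, 0, 0, 0, 1, 0, 1, 0, 0, 0, 0, 0, 1, 0, 1, 0, 0, 0, 0,
  1, 0, 0, 0, 0, 0, 0, 0, 0, 1, 0, 0, 0, 0, 0, 0, 0, 0, 0, 0, 0, 0, 0, 0, 0, 0, 0, 0, 0, 0,
  0, 0, 0, 0, 0, 0, 0, 0, 0, 0, 0, 0, 0, 0, 0, 0, 0, 0, 0, 0, 0, 0, 0, 0, 0, 0, 0, 0, 0, 0,
  0, 0, 0, 0, 0, 0, 0, 0, 0, 0, 0, 0, 0, 0, 0, 0, 0, 0, 0, 0, 0, 0, 0, 0, 0, 0, 0, 0, 0, 0,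
  0, 0, 0, 0, 0, 0, 0, 0, 0, 0, 0, 0, 0, 0, 0, 0, 0, 0, 0, 0, 0, 0, 0, 0, 0, 0, 0, 0, 0, 0]

def perms : List (List ℕ) := [
  [0, 1, 2, 3, 12, 13, 14, 15, 8, 9, 10, 11, 4, 5, 6, 7], [0, 1, 6, 7, 4, 5, 2, 3, 8, 9, 14, 15, 12, 13, 10, 11],
  [0, 1, 10, 11, 4, 5, 14, 15, 8, 9, 2, 3, 12, 13, 6, 7], [2, 3, 0, 1, 6, 7, 4, 5, 10, 11, 8, 9, 14, 15, 12, 13],
  [4, 5, 6, 7, 0, 1, 2, 3, 12, 13, 14, 15, 8, 9, 10, 11], [8, 9, 10, 11, 12, 13, 14, 15, 0, 1, 2, 3, 4, 5, 6, 7],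
  [0, 1, 2, 3, 4, 5, 6, 7, 8, 9, 10, 11, 12, 13, 14, 15], [0, 1, 2, 3, 4, 5, 6, 7, 8, 9, 10, 11, 12, 13, 14, 15],
  [0, 1, 2, 3, 4, 5, 6, 7, 8, 9, 10, 11, 12, 13, 14, 15], [0, 1, 2, 3, 4, 5, 6, 7, 9, 8, 10, 11, 12, 13, 14, 15],
  [0, 1, 2, 3, 4, 5, 6, 7, 9, 8, 11, 10, 12, 13, 14, 15], [0, 1, 2, 3, 4, 5, 6, 7, 9, 8, 10, 11, 13, 12, 14, 15],
  [0, 1, 3, 2, 5, 4, 7, 6, 8, 9, 11, 10, 13, 12, 15, 14], [0, 1, 2, 3, 4, 5, 6, 7, 9, 8, 11, 10, 13, 12, 15, 14],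
  [1, 0, 3, 2, 4, 5, 6, 7, 9, 8, 11, 10, 12, 13, 14, 15], [1, 0, 2, 3, 5, 4, 6, 7, 9, 8, 10, 11, 13, 12, 14, 15],
  [1, 0, 3, 2, 5, 4, 7, 6, 9, 8, 11, 10, 13, 12, 15, 14], [0, 1, 2, 3, 4, 5, 6, 7, 9, 8, 11, 10, 13, 12, 15, 14],
  [0, 1, 2, 3, 5, 4, 7, 6, 8, 9, 10, 11, 13, 12, 15, 14], [0, 1, 3, 2, 4, 5, 7, 6, 8, 9, 11, 10, 12, 13, 15, 14],
  [0, 1, 2, 3, 4, 5, 6, 7, 8, 9, 10, 11, 12, 13, 14, 15], [1, 0, 3, 2, 5, 4, 7, 6, 9, 8, 11, 10, 13, 12, 15, 14],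
  [0, 1, 2, 3, 4, 5, 6, 7, 8, 9, 10, 11, 12, 13, 14, 15], [1, 0, 3, 2, 5, 4, 7, 6, 9, 8, 11, 10, 13, 12, 15, 14]]

def images : List (List ℕ) := [
  [0, 1, 2, 10, 11, 12, 17, 18, 19, 24, 3, 4, 5, 13, 14, 15, 20, 6, 7, 8, 16, 21, 22, 23],
  [0, 6, 7, 24, 4, 5, 1, 2, 8, 10, 9, 13, 14, 11, 12, 16, 15, 17, 18, 21, 20, 19, 22, 23],
  [2, 24, 0, 4, 3, 5, 6, 8, 7, 9, 11, 10, 12, 13, 15, 14, 16, 17, 19, 18, 20, 22, 21, 23],
  [24, 2, 1, 3, 5, 4, 7, 6, 8, 9, 10, 12, 11, 14, 13, 15, 16, 18, 17, 19, 20, 21, 23, 22]]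

def signs : List (List ℕ) := [
  [0, 0, 0, 0, 0, 0, 0, 0, 0, 0, 0, 0, 0, 0, 0, 0, 0, 0, 0, 0, 0, 0, 0, 0],
  [0, 0, 0, 0, 0, 0, 0, 0, 0, 0, 0, 0, 1, 0, 1, 0, 0, 0, 0, 1, 0, 1, 0, 0],
  [0, 0, 0, 0, 0, 0, 0, 0, 0, 0, 0, 0, 0, 0, 0, 0, 0, 0, 0, 0, 0, 1, 1, 0],
  [0, 0, 0, 0, 0, 0, 0, 0, 0, 0, 0, 1, 1, 0, 0, 0, 0, 1, 1, 0, 0, 0, 1, 1]]

def pairU : List ℕ := [0, 6, 10, 15]

def pairV : List ℕ := [3, 12, 22]

def pairG : List ℕ := [8, 12, 18, 22]

def fusRules : List (List ℕ × List ℕ) := [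
  ([24, 0],[0, 24]), ([24, 1],[1, 24]), ([24, 2],[2, 24]), ([24, 3],[10, 24]), ([24, 4],[11, 24]), ([24, 5],[12, 24]),
  ([24, 6],[17, 24]), ([24, 7],[18, 24]), ([24, 8],[19, 24]), ([24, 10],[3, 24]), ([24, 11],[4, 24]), ([24, 12],[5, 24]),
  ([24, 13],[13, 24]), ([24, 14],[14, 24]), ([24, 15],[15, 24]), ([24, 16],[20, 24]), ([24, 17],[6, 24]), ([24, 18],[7, 24]),
  ([24, 19],[8, 24]), ([24, 20],[16, 24]), ([24, 21],[21, 24]), ([24, 22],[22, 24]), ([24, 23],[23, 24]), ([25, 0],[0, 25]),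
  ([25, 1],[6, 25]), ([25, 2],[7, 25]), ([25, 4],[4, 25]), ([25, 5],[5, 25]), ([25, 6],[1, 25]), ([25, 7],[2, 25]),
  ([25, 8],[8, 25]), ([25, 9],[10, 25]), ([25, 10],[9, 25]), ([25, 11],[13, 25]), ([25, 12],[14, 25]), ([25, 13],[11, 25]),
  ([25, 14],[12, 25]), ([25, 15],[16, 25]), ([25, 16],[15, 25]), ([25, 17],[17, 25]), ([25, 18],[18, 25]), ([25, 19],[21, 25]),
  ([25, 20],[20, 25]), ([25, 21],[19, 25]), ([25, 22],[22, 25]), ([25, 23],[23, 25]), ([26, 0],[2, 26]), ([26, 2],[0, 26]),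
  ([26, 3],[4, 26]), ([26, 4],[3, 26]), ([26, 5],[5, 26]), ([26, 6],[6, 26]), ([26, 7],[8, 26]), ([26, 8],[7, 26]),
  ([26, 9],[9, 26]), ([26, 10],[11, 26]), ([26, 11],[10, 26]), ([26, 12],[12, 26]), ([26, 13],[13, 26]), ([26, 14],[15, 26]),
  ([26, 15],[14, 26]), ([26, 16],[16, 26]), ([26, 17],[17, 26]), ([26, 18],[19, 26]), ([26, 19],[18, 26]), ([26, 20],[20, 26]),
  ([26, 21],[22, 26]), ([26, 22],[21, 26]), ([26, 23],[23, 26]), ([27, 1],[2, 27]), ([27, 2],[1, 27]), ([27, 3],[3, 27]),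
  ([27, 4],[5, 27]), ([27, 5],[4, 27]), ([27, 6],[7, 27]), ([27, 7],[6, 27]), ([27, 8],[8, 27]), ([27, 9],[9, 27]),
  ([27, 10],[10, 27]), ([27, 11],[12, 27]), ([27, 12],[11, 27]), ([27, 13],[14, 27]), ([27, 14],[13, 27]), ([27, 15],[15, 27]),
  ([27, 16],[16, 27]), ([27, 17],[18, 27]), ([27, 18],[17, 27]), ([27, 19],[19, 27]), ([27, 20],[20, 27]), ([27, 21],[21, 27]),
  ([27, 22],[23, 27]), ([27, 23],[22, 27])]

def eqs0 : List (List ℕ × List Schur.StableCert.Step × List Schur.StableCert.Step) := [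
  ([1, 0, 0],[(0,24,true),(2,25,true),(1,24,true),(0,0,true),(1,2,true)],[(1,0,true)]),
  ([1, 1, 0],[(0,1,true)],[(1,24,true),(0,24,true),(2,47,true),(1,1,true),(1,2,true)]),
  ([4, 3, 0],[(0,90,true),(1,27,true),(0,26,true)],[(1,26,true),(0,27,true),(3,94,true),(2,91,true),(1,90,true)]),
  ([5, 1, 0],[(0,50,true),(1,28,true),(0,24,true)],[(1,24,true),(0,28,true),(1,50,true),(2,71,true)]),
  ([6, 0, 0],[(0,29,true),(2,30,true),(1,29,true),(0,0,true),(1,7,true)],[(1,0,true)]),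
  ([6, 2, 1],[(0,72,true),(2,53,true),(1,51,true),(0,47,true)],[(1,47,true),(0,51,true),(1,72,true)]),
  ([6, 2, 2],[(0,72,true),(2,74,true),(1,72,true),(0,2,true),(1,8,true)],[(1,2,true)]),
  ([6, 6, 0],[(0,6,true)],[(1,29,true),(0,29,true),(2,147,true),(1,6,true),(1,7,true)]),
  ([6, 6, 2],[(0,6,true)],[(1,72,true),(0,72,true),(2,148,true),(1,6,true),(1,8,true)]),
  ([7, 1, 1],[(0,52,true),(2,53,true),(1,52,true),(0,1,true),(1,8,true)],[(1,1,true)]),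
  ([7, 7, 1],[(0,7,true)],[(1,52,true),(0,52,true),(2,164,true),(1,7,true),(1,8,true)]),
  ([9, 1, 0],[(0,54,true),(1,32,true),(0,24,true)],[(1,24,true),(0,32,true),(1,54,true),(2,75,true)]),
  ([9, 3, 3],[(0,95,true),(2,96,true),(1,95,true),(0,3,true),(1,10,true)],[(1,3,true)]),
  ([9, 4, 4],[(0,114,true),(2,116,true),(1,114,true),(0,4,true),(1,11,true)],[(1,4,true)]),
  ([9, 5, 5],[(0,132,true),(2,135,true),(1,132,true),(0,5,true),(1,12,true)],[(1,5,true)]),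
  ([9, 6, 1],[(0,149,true),(3,62,true),(2,58,true),(1,54,true),(0,51,true)],[(1,51,true),(0,54,true),(1,149,true)]),
  ([9, 9, 3],[(0,9,true)],[(1,95,true),(0,95,true),(2,195,true),(1,9,true),(1,10,true)]),
  ([9, 9, 4],[(0,9,true)],[(1,114,true),(0,114,true),(2,196,true),(1,9,true),(1,11,true)]),
  ([9, 9, 5],[(0,9,true)],[(1,132,true),(0,132,true),(2,197,true),(1,9,true),(1,12,true)]),
  ([10, 4, 3],[(0,115,true),(2,99,true),(1,96,true),(0,90,true)],[(1,90,true),(0,96,true),(1,115,true)]),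
  ([10, 4, 4],[(0,115,true),(2,118,true),(1,115,true),(0,4,true),(1,13,true)],[(1,4,true)]),
  ([10, 5, 5],[(0,133,true),(2,137,true),(1,133,true),(0,5,true),(1,14,true)],[(1,5,true)]),
  ([10, 10, 4],[(0,10,true)],[(1,115,true),(0,115,true),(2,211,true),(1,10,true),(1,13,true)]),
  ([10, 10, 5],[(0,10,true)],[(1,133,true),(0,133,true),(2,212,true),(1,10,true),(1,14,true)]),
  ([11, 3, 3],[(0,97,true),(2,99,true),(1,97,true),(0,3,true),(1,13,true)],[(1,3,true)]),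
  ([11, 5, 5],[(0,134,true),(2,138,true),(1,134,true),(0,5,true),(1,15,true)],[(1,5,true)]),
  ([11, 11, 3],[(0,11,true)],[(1,97,true),(0,97,true),(2,223,true),(1,11,true),(1,13,true)]),
  ([11, 11, 5],[(0,11,true)],[(1,134,true),(0,134,true),(2,225,true),(1,11,true),(1,15,true)]),
  ([12, 3, 3],[(0,98,true),(2,100,true),(1,98,true),(0,3,true),(1,14,true)],[(1,3,true)]),
  ([12, 4, 4],[(0,117,true),(2,120,true),(1,117,true),(0,4,true),(1,15,true)],[(1,4,true)]),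
  ([12, 12, 3],[(0,12,true)],[(1,98,true),(0,98,true),(2,235,true),(1,12,true),(1,14,true)]),
  ([12, 12, 4],[(0,12,true)],[(1,117,true),(0,117,true),(2,236,true),(1,12,true),(1,15,true)]),
  ([13, 5, 5],[(0,136,true),(2,139,true),(1,136,true),(0,5,true),(1,16,true)],[(1,5,true)]),
  ([13, 12, 12],[(0,234,true),(2,241,true),(1,234,true),(0,12,true),(1,20,true)],[(1,12,true)]),
  ([13, 13, 5],[(0,13,true)],[(1,136,true),(0,136,true),(2,247,true),(1,13,true),(1,16,true)]),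
  ([13, 13, 12],[(0,13,true)],[(1,234,true),(0,234,true),(2,251,true),(1,13,true),(1,20,true)]),
  ([14, 4, 4],[(0,119,true),(2,121,true),(1,119,true),(0,4,true),(1,16,true)],[(1,4,true)]),
  ([14, 11, 11],[(0,224,true),(2,230,true),(1,224,true),(0,11,true),(1,20,true)],[(1,11,true)]),
  ([14, 14, 4],[(0,14,true)],[(1,119,true),(0,119,true),(2,256,true),(1,14,true),(1,16,true)]),
  ([14, 14, 11],[(0,14,true)],[(1,224,true),(0,224,true),(2,260,true),(1,14,true),(1,20,true)])]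

def eqs1 : List (List ℕ × List Schur.StableCert.Step × List Schur.StableCert.Step) := [
  ([15, 3, 3],[(0,101,true),(2,102,true),(1,101,true),(0,3,true),(1,16,true)],[(1,3,true)]),
  ([15, 10, 10],[(0,213,true),(2,218,true),(1,213,true),(0,10,true),(1,20,true)],[(1,10,true)]),
  ([15, 15, 3],[(0,15,true)],[(1,101,true),(0,101,true),(2,264,true),(1,15,true),(1,16,true)]),
  ([15, 15, 10],[(0,15,true)],[(1,213,true),(0,213,true),(2,268,true),(1,15,true),(1,20,true)]),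
  ([16, 9, 9],[(0,201,true),(2,205,true),(1,201,true),(0,9,true),(1,20,true)],[(1,9,true)]),
  ([16, 16, 9],[(0,16,true)],[(1,201,true),(0,201,true),(2,275,true),(1,16,true),(1,20,true)]),
  ([17, 0, 0],[(0,40,true),(2,41,true),(1,40,true),(0,0,true),(1,18,true)],[(1,0,true)]),
  ([17, 2, 2],[(0,83,true),(2,85,true),(1,83,true),(0,2,true),(1,19,true)],[(1,2,true)]),
  ([17, 7, 7],[(0,173,true),(2,177,true),(1,173,true),(0,7,true),(1,21,true)],[(1,7,true)]),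
  ([17, 8, 8],[(0,188,true),(2,193,true),(1,188,true),(0,8,true),(1,22,true)],[(1,8,true)]),
  ([17, 17, 0],[(0,17,true)],[(1,40,true),(0,40,true),(2,279,true),(1,17,true),(1,18,true)]),
  ([17, 17, 2],[(0,17,true)],[(1,83,true),(0,83,true),(2,280,true),(1,17,true),(1,19,true)]),
  ([17, 17, 7],[(0,17,true)],[(1,173,true),(0,173,true),(2,282,true),(1,17,true),(1,21,true)]),
  ([17, 17, 8],[(0,17,true)],[(1,188,true),(0,188,true),(2,283,true),(1,17,true),(1,22,true)]),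
  ([18, 1, 1],[(0,63,true),(2,64,true),(1,63,true),(0,1,true),(1,19,true)],[(1,1,true)]),
  ([18, 6, 6],[(0,158,true),(2,161,true),(1,158,true),(0,6,true),(1,21,true)],[(1,6,true)]),
  ([18, 8, 8],[(0,189,true),(2,194,true),(1,189,true),(0,8,true),(1,23,true)],[(1,8,true)]),
  ([18, 18, 1],[(0,18,true)],[(1,63,true),(0,63,true),(2,285,true),(1,18,true),(1,19,true)]),
  ([18, 18, 6],[(0,18,true)],[(1,158,true),(0,158,true),(2,287,true),(1,18,true),(1,21,true)]),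
  ([18, 18, 8],[(0,18,true)],[(1,189,true),(0,189,true),(2,289,true),(1,18,true),(1,23,true)]),
  ([19, 6, 6],[(0,159,true),(2,162,true),(1,159,true),(0,6,true),(1,22,true)],[(1,6,true)]),
  ([19, 7, 7],[(0,175,true),(2,179,true),(1,175,true),(0,7,true),(1,23,true)],[(1,7,true)]),
  ([19, 19, 6],[(0,19,true)],[(1,159,true),(0,159,true),(2,292,true),(1,19,true),(1,22,true)]),
  ([19, 19, 7],[(0,19,true)],[(1,175,true),(0,175,true),(2,293,true),(1,19,true),(1,23,true)]),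
  ([21, 1, 1],[(0,66,true),(2,67,true),(1,66,true),(0,1,true),(1,22,true)],[(1,1,true)]),
  ([21, 2, 2],[(0,87,true),(2,89,true),(1,87,true),(0,2,true),(1,23,true)],[(1,2,true)]),
  ([21, 21, 1],[(0,21,true)],[(1,66,true),(0,66,true),(2,297,true),(1,21,true),(1,22,true)]),
  ([21, 21, 2],[(0,21,true)],[(1,87,true),(0,87,true),(2,298,true),(1,21,true),(1,23,true)]),
  ([22, 0, 0],[(0,45,true),(2,46,true),(1,45,true),(0,0,true),(1,23,true)],[(1,0,true)]),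
  ([22, 22, 0],[(0,22,true)],[(1,45,true),(0,45,true),(2,299,true),(1,22,true),(1,23,true)]),
  ([24, 3, 3],[(1,3,true)],[(0,303,true),(1,303,true),(0,10,true)]),
  ([24, 4, 4],[(1,4,true)],[(0,304,true),(1,304,true),(0,11,true)]),
  ([24, 5, 5],[(1,5,true)],[(0,305,true),(1,305,true),(0,12,true)]),
  ([24, 6, 6],[(1,6,true)],[(0,306,true),(1,306,true),(0,17,true)]),
  ([24, 7, 7],[(1,7,true)],[(0,307,true),(1,307,true),(0,18,true)]),
  ([24, 8, 8],[(1,8,true)],[(0,308,true),(1,308,true),(0,19,true)]),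
  ([24, 16, 16],[(1,16,true)],[(0,315,true),(1,315,true),(0,20,true)]),
  ([24, 3, 0],[(1,26,true),(0,300,true),(1,303,true)],[(0,303,true),(1,300,true),(0,33,true)]),
  ([24, 4, 0],[(1,27,true),(0,300,true),(1,304,true),(2,305,true),(3,308,true)],[(0,304,true),(1,300,true),(0,34,true)]),
  ([24, 5, 0],[(1,28,true),(0,300,true),(1,305,true)],[(0,305,true),(1,300,true),(0,35,true)])]

def eqs2 : List (List ℕ × List Schur.StableCert.Step × List Schur.StableCert.Step) := [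
  ([24, 6, 0],[(1,29,true),(0,300,true),(1,306,true),(2,307,true)],[(0,306,true),(1,300,true),(0,40,true)]),
  ([24, 8, 0],[(1,31,true),(0,300,true),(1,308,true)],[(0,308,true),(1,300,true),(0,42,true)]),
  ([24, 13, 0],[(1,36,true),(0,300,true),(1,312,true),(2,313,true),(3,320,true)],[(0,312,true),(1,300,true),(0,36,true)]),
  ([24, 16, 0],[(1,39,true),(0,300,true),(1,315,true)],[(0,315,true),(1,300,true),(0,43,true)]),
  ([24, 4, 1],[(1,49,true),(0,301,true),(1,304,true)],[(0,304,true),(1,301,true),(0,56,true)]),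
  ([24, 5, 1],[(1,50,true),(0,301,true),(1,305,true)],[(0,305,true),(1,301,true),(0,57,true)]),
  ([24, 6, 1],[(1,51,true),(0,301,true),(1,306,true)],[(0,306,true),(1,301,true),(0,62,true)]),
  ([24, 7, 1],[(1,52,true),(0,301,true),(1,307,true),(2,308,true)],[(0,307,true),(1,301,true),(0,63,true)]),
  ([24, 16, 1],[(1,61,true),(0,301,true),(1,315,true)],[(0,315,true),(1,301,true),(0,65,true)]),
  ([24, 3, 2],[(1,69,true),(0,302,true),(1,303,true),(2,305,true),(3,307,true)],[(0,303,true),(1,302,true),(0,76,true)]),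
  ([24, 4, 2],[(1,70,true),(0,302,true),(1,304,true)],[(0,304,true),(1,302,true),(0,77,true)]),
  ([24, 5, 2],[(1,71,true),(0,302,true),(1,305,true)],[(0,305,true),(1,302,true),(0,78,true)]),
  ([24, 6, 2],[(1,72,true),(0,302,true),(1,306,true),(2,308,true)],[(0,306,true),(1,302,true),(0,83,true)]),
  ([24, 7, 2],[(1,73,true),(0,302,true),(1,307,true)],[(0,307,true),(1,302,true),(0,84,true)]),
  ([24, 16, 2],[(1,82,true),(0,302,true),(1,315,true)],[(0,315,true),(1,302,true),(0,86,true)]),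
  ([24, 4, 3],[(1,90,true),(0,303,true),(1,304,true)],[(0,304,true),(1,303,true),(0,209,true)]),
  ([24, 5, 3],[(1,91,true),(0,303,true),(1,305,true)],[(0,305,true),(1,303,true),(0,210,true)]),
  ([24, 6, 3],[(1,92,true),(0,303,true),(1,306,true)],[(0,306,true),(1,303,true),(0,215,true)]),
  ([24, 7, 3],[(1,93,true),(0,303,true),(1,307,true)],[(0,307,true),(1,303,true),(0,216,true)]),
  ([24, 8, 3],[(1,94,true),(0,303,true),(1,308,true)],[(0,308,true),(1,303,true),(0,217,true)]),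
  ([24, 12, 3],[(1,98,true),(0,303,true),(1,311,true),(2,313,true),(0,133,true),(2,14,true)],[(0,311,true),(1,303,true)]),
  ([24, 15, 3],[(1,101,true),(0,303,true),(1,314,true),(2,315,true)],[(0,314,true),(1,303,true),(0,213,true)]),
  ([24, 17, 3],[(1,103,true),(0,303,true),(1,316,true),(0,150,true)],[(0,316,true),(1,303,true)]),
  ([24, 18, 3],[(1,104,true),(0,303,true),(1,317,true),(0,166,true)],[(0,317,true),(1,303,true)]),
  ([24, 19, 3],[(1,105,true),(0,303,true),(1,318,true),(2,319,true),(3,320,true),(0,181,true),(3,276,true),(2,16,true),(2,21,true)],[(0,318,true),(1,303,true)]),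
  ([24, 20, 3],[(1,106,true),(0,303,true),(1,319,true)],[(0,319,true),(1,303,true),(0,214,true)]),
  ([24, 21, 3],[(1,107,true),(0,303,true),(1,320,true)],[(0,320,true),(1,303,true),(0,219,true)]),
  ([24, 22, 3],[(1,108,true),(0,303,true),(1,321,true)],[(0,321,true),(1,303,true),(0,220,true)]),
  ([24, 23, 3],[(1,109,true),(0,303,true),(1,322,true)],[(0,322,true),(1,303,true),(0,221,true)]),
  ([24, 5, 4],[(1,110,true),(0,304,true),(1,305,true)],[(0,305,true),(1,304,true),(0,222,true)]),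
  ([24, 6, 4],[(1,111,true),(0,304,true),(1,306,true)],[(0,306,true),(1,304,true),(0,227,true)]),
  ([24, 7, 4],[(1,112,true),(0,304,true),(1,307,true)],[(0,307,true),(1,304,true),(0,228,true)]),
  ([24, 8, 4],[(1,113,true),(0,304,true),(1,308,true)],[(0,308,true),(1,304,true),(0,229,true)]),
  ([24, 14, 4],[(1,119,true),(0,304,true),(1,313,true),(2,315,true)],[(0,313,true),(1,304,true),(0,224,true)]),
  ([24, 17, 4],[(1,122,true),(0,304,true),(1,316,true),(0,151,true)],[(0,316,true),(1,304,true)]),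
  ([24, 19, 4],[(1,124,true),(0,304,true),(1,318,true),(0,182,true)],[(0,318,true),(1,304,true)]),
  ([24, 20, 4],[(1,125,true),(0,304,true),(1,319,true)],[(0,319,true),(1,304,true),(0,226,true)]),
  ([24, 21, 4],[(1,126,true),(0,304,true),(1,320,true)],[(0,320,true),(1,304,true),(0,231,true)]),
  ([24, 22, 4],[(1,127,true),(0,304,true),(1,321,true)],[(0,321,true),(1,304,true),(0,232,true)]),
  ([24, 23, 4],[(1,128,true),(0,304,true),(1,322,true)],[(0,322,true),(1,304,true),(0,233,true)])]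

def eqs3 : List (List ℕ × List Schur.StableCert.Step × List Schur.StableCert.Step) := [
  ([24, 6, 5],[(1,129,true),(0,305,true),(1,306,true)],[(0,306,true),(1,305,true),(0,238,true)]),
  ([24, 7, 5],[(1,130,true),(0,305,true),(1,307,true)],[(0,307,true),(1,305,true),(0,239,true)]),
  ([24, 8, 5],[(1,131,true),(0,305,true),(1,308,true)],[(0,308,true),(1,305,true),(0,240,true)]),
  ([24, 13, 5],[(1,136,true),(0,305,true),(1,312,true),(2,315,true)],[(0,312,true),(1,305,true),(0,234,true)]),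
  ([24, 18, 5],[(1,141,true),(0,305,true),(1,317,true),(0,168,true)],[(0,317,true),(1,305,true)]),
  ([24, 19, 5],[(1,142,true),(0,305,true),(1,318,true),(0,183,true)],[(0,318,true),(1,305,true)]),
  ([24, 20, 5],[(1,143,true),(0,305,true),(1,319,true)],[(0,319,true),(1,305,true),(0,237,true)]),
  ([24, 21, 5],[(1,144,true),(0,305,true),(1,320,true)],[(0,320,true),(1,305,true),(0,242,true)]),
  ([24, 22, 5],[(1,145,true),(0,305,true),(1,321,true)],[(0,321,true),(1,305,true),(0,243,true)]),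
  ([24, 23, 5],[(1,146,true),(0,305,true),(1,322,true)],[(0,322,true),(1,305,true),(0,244,true)]),
  ([24, 13, 6],[(1,153,true),(0,306,true),(1,312,true),(0,248,true)],[(0,312,true),(1,306,true)]),
  ([24, 14, 6],[(1,154,true),(0,306,true),(1,313,true),(0,257,true)],[(0,313,true),(1,306,true)]),
  ([24, 15, 6],[(1,155,true),(0,306,true),(1,314,true),(0,265,true)],[(0,314,true),(1,306,true)]),
  ([24, 16, 6],[(1,156,true),(0,306,true),(1,315,true)],[(0,315,true),(1,306,true),(0,281,true)]),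
  ([24, 18, 6],[(1,158,true),(0,306,true),(1,317,true),(2,320,true),(0,173,true),(2,21,true)],[(0,317,true),(1,306,true)]),
  ([24, 20, 6],[(1,160,true),(0,306,true),(1,319,true),(0,272,true)],[(0,319,true),(1,306,true)]),
  ([24, 23, 6],[(1,163,true),(0,306,true),(1,322,true)],[(0,322,true),(1,306,true),(0,284,true)]),
  ([24, 13, 7],[(1,169,true),(0,307,true),(1,312,true),(0,249,true)],[(0,312,true),(1,307,true)]),
  ([24, 14, 7],[(1,170,true),(0,307,true),(1,313,true),(0,258,true)],[(0,313,true),(1,307,true)]),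
  ([24, 15, 7],[(1,171,true),(0,307,true),(1,314,true),(0,266,true)],[(0,314,true),(1,307,true)]),
  ([24, 16, 7],[(1,172,true),(0,307,true),(1,315,true)],[(0,315,true),(1,307,true),(0,286,true)]),
  ([24, 20, 7],[(1,176,true),(0,307,true),(1,319,true),(0,273,true)],[(0,319,true),(1,307,true)]),
  ([24, 22, 7],[(1,178,true),(0,307,true),(1,321,true)],[(0,321,true),(1,307,true),(0,288,true)]),
  ([24, 13, 8],[(1,184,true),(0,308,true),(1,312,true),(0,250,true)],[(0,312,true),(1,308,true)]),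
  ([24, 14, 8],[(1,185,true),(0,308,true),(1,313,true),(0,259,true)],[(0,313,true),(1,308,true)]),
  ([24, 15, 8],[(1,186,true),(0,308,true),(1,314,true),(0,267,true)],[(0,314,true),(1,308,true)]),
  ([24, 16, 8],[(1,187,true),(0,308,true),(1,315,true)],[(0,315,true),(1,308,true),(0,290,true)]),
  ([24, 20, 8],[(1,191,true),(0,308,true),(1,319,true),(0,274,true)],[(0,319,true),(1,308,true)]),
  ([24, 21, 8],[(1,192,true),(0,308,true),(1,320,true)],[(0,320,true),(1,308,true),(0,291,true)]),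
  ([24, 15, 10],[(1,213,true),(0,309,true),(1,314,true),(2,319,true)],[(0,314,true),(1,309,true),(0,101,true)]),
  ([24, 21, 16],[(1,276,true),(0,315,true),(1,320,true)],[(0,320,true),(1,315,true),(0,294,true)]),
  ([24, 22, 16],[(1,277,true),(0,315,true),(1,321,true)],[(0,321,true),(1,315,true),(0,295,true)]),
  ([24, 23, 16],[(1,278,true),(0,315,true),(1,322,true)],[(0,322,true),(1,315,true),(0,296,true)]),
  ([25, 1, 1],[(1,1,true)],[(0,324,true),(1,324,true),(0,6,true)]),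
  ([25, 2, 2],[(1,2,true)],[(0,325,true),(1,325,true),(0,7,true)]),
  ([25, 9, 9],[(1,9,true)],[(0,331,true),(1,331,true),(0,10,true)]),
  ([25, 11, 11],[(1,11,true)],[(0,333,true),(1,333,true),(0,13,true)]),
  ([25, 12, 12],[(1,12,true)],[(0,334,true),(1,334,true),(0,14,true)]),
  ([25, 15, 15],[(1,15,true)],[(0,337,true),(1,337,true),(0,16,true)]),
  ([25, 19, 19],[(1,19,true)],[(0,341,true),(1,341,true),(0,21,true)])]

def eqs4 : List (List ℕ × List Schur.StableCert.Step × List Schur.StableCert.Step) := [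
  ([25, 9, 0],[(1,32,true),(0,323,true),(1,331,true)],[(0,331,true),(1,323,true),(0,33,true)]),
  ([25, 11, 0],[(1,34,true),(0,323,true),(1,333,true),(2,334,true),(3,341,true)],[(0,333,true),(1,323,true),(0,36,true)]),
  ([25, 12, 0],[(1,35,true),(0,323,true),(1,334,true)],[(0,334,true),(1,323,true),(0,37,true)]),
  ([25, 15, 0],[(1,38,true),(0,323,true),(1,337,true)],[(0,337,true),(1,323,true),(0,39,true)]),
  ([25, 17, 0],[(1,40,true),(0,323,true),(1,339,true),(2,340,true)],[(0,339,true),(1,323,true),(0,40,true)]),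
  ([25, 19, 0],[(1,42,true),(0,323,true),(1,341,true)],[(0,341,true),(1,323,true),(0,44,true)]),
  ([25, 22, 0],[(1,45,true),(0,323,true),(1,344,true),(2,345,true)],[(0,344,true),(1,323,true),(0,45,true)]),
  ([25, 4, 1],[(1,49,true),(0,324,true),(1,326,true),(0,111,true)],[(0,326,true),(1,324,true)]),
  ([25, 5, 1],[(1,50,true),(0,324,true),(1,327,true),(0,129,true)],[(0,327,true),(1,324,true)]),
  ([25, 9, 1],[(1,54,true),(0,324,true),(1,331,true)],[(0,331,true),(1,324,true),(0,150,true)]),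
  ([25, 11, 1],[(1,56,true),(0,324,true),(1,333,true)],[(0,333,true),(1,324,true),(0,153,true)]),
  ([25, 12, 1],[(1,57,true),(0,324,true),(1,334,true)],[(0,334,true),(1,324,true),(0,154,true)]),
  ([25, 13, 1],[(1,58,true),(0,324,true),(1,335,true)],[(0,335,true),(1,324,true),(0,151,true)]),
  ([25, 14, 1],[(1,59,true),(0,324,true),(1,336,true),(2,337,true),(3,345,true)],[(0,336,true),(1,324,true),(0,152,true)]),
  ([25, 15, 1],[(1,60,true),(0,324,true),(1,337,true)],[(0,337,true),(1,324,true),(0,156,true)]),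
  ([25, 16, 1],[(1,61,true),(0,324,true),(1,338,true)],[(0,338,true),(1,324,true),(0,155,true)]),
  ([25, 17, 1],[(1,62,true),(0,324,true),(1,339,true)],[(0,339,true),(1,324,true),(0,157,true)]),
  ([25, 18, 1],[(1,63,true),(0,324,true),(1,340,true),(2,341,true)],[(0,340,true),(1,324,true),(0,158,true)]),
  ([25, 20, 1],[(1,65,true),(0,324,true),(1,342,true)],[(0,342,true),(1,324,true),(0,160,true)]),
  ([25, 21, 1],[(1,66,true),(0,324,true),(1,343,true),(2,344,true)],[(0,343,true),(1,324,true),(0,159,true)]),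
  ([25, 23, 1],[(1,68,true),(0,324,true),(1,345,true)],[(0,345,true),(1,324,true),(0,163,true)]),
  ([25, 4, 2],[(1,70,true),(0,325,true),(1,326,true),(0,112,true)],[(0,326,true),(1,325,true)]),
  ([25, 5, 2],[(1,71,true),(0,325,true),(1,327,true),(0,130,true)],[(0,327,true),(1,325,true)]),
  ([25, 9, 2],[(1,75,true),(0,325,true),(1,331,true)],[(0,331,true),(1,325,true),(0,166,true)]),
  ([25, 10, 2],[(1,76,true),(0,325,true),(1,332,true),(2,334,true),(3,340,true)],[(0,332,true),(1,325,true),(0,165,true)]),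
  ([25, 11, 2],[(1,77,true),(0,325,true),(1,333,true)],[(0,333,true),(1,325,true),(0,169,true)]),
  ([25, 12, 2],[(1,78,true),(0,325,true),(1,334,true)],[(0,334,true),(1,325,true),(0,170,true)]),
  ([25, 13, 2],[(1,79,true),(0,325,true),(1,335,true),(2,337,true),(3,344,true)],[(0,335,true),(1,325,true),(0,167,true)]),
  ([25, 14, 2],[(1,80,true),(0,325,true),(1,336,true)],[(0,336,true),(1,325,true),(0,168,true)]),
  ([25, 15, 2],[(1,81,true),(0,325,true),(1,337,true)],[(0,337,true),(1,325,true),(0,172,true)]),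
  ([25, 16, 2],[(1,82,true),(0,325,true),(1,338,true)],[(0,338,true),(1,325,true),(0,171,true)]),
  ([25, 17, 2],[(1,83,true),(0,325,true),(1,339,true),(2,341,true)],[(0,339,true),(1,325,true),(0,173,true)]),
  ([25, 18, 2],[(1,84,true),(0,325,true),(1,340,true)],[(0,340,true),(1,325,true),(0,174,true)]),
  ([25, 20, 2],[(1,86,true),(0,325,true),(1,342,true)],[(0,342,true),(1,325,true),(0,176,true)]),
  ([25, 21, 2],[(1,87,true),(0,325,true),(1,343,true),(2,345,true)],[(0,343,true),(1,325,true),(0,175,true)]),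
  ([25, 22, 2],[(1,88,true),(0,325,true),(1,344,true)],[(0,344,true),(1,325,true),(0,178,true)]),
  ([25, 12, 4],[(1,117,true),(0,326,true),(1,334,true),(2,337,true)],[(0,334,true),(1,326,true),(0,119,true)]),
  ([25, 18, 4],[(1,123,true),(0,326,true),(1,340,true),(2,342,true),(3,344,true)],[(0,340,true),(1,326,true),(0,123,true)]),
  ([25, 19, 4],[(1,124,true),(0,326,true),(1,341,true)],[(0,341,true),(1,326,true),(0,126,true)]),
  ([25, 9, 5],[(1,132,true),(0,327,true),(1,331,true),(2,334,true)],[(0,331,true),(1,327,true),(0,133,true)])]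

def eqs5 : List (List ℕ × List Schur.StableCert.Step × List Schur.StableCert.Step) := [
  ([25, 11, 5],[(1,134,true),(0,327,true),(1,333,true),(2,337,true)],[(0,333,true),(1,327,true),(0,136,true)]),
  ([25, 19, 5],[(1,142,true),(0,327,true),(1,341,true)],[(0,341,true),(1,327,true),(0,144,true)]),
  ([25, 9, 8],[(1,180,true),(0,330,true),(1,331,true),(2,337,true),(3,341,true)],[(0,331,true),(1,330,true),(0,181,true)]),
  ([25, 11, 8],[(1,182,true),(0,330,true),(1,333,true)],[(0,333,true),(1,330,true),(0,184,true)]),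
  ([25, 12, 8],[(1,183,true),(0,330,true),(1,334,true)],[(0,334,true),(1,330,true),(0,185,true)]),
  ([25, 15, 8],[(1,186,true),(0,330,true),(1,337,true)],[(0,337,true),(1,330,true),(0,187,true)]),
  ([25, 17, 8],[(1,188,true),(0,330,true),(1,339,true),(2,344,true)],[(0,339,true),(1,330,true),(0,188,true)]),
  ([25, 19, 8],[(1,190,true),(0,330,true),(1,341,true)],[(0,341,true),(1,330,true),(0,192,true)]),
  ([25, 13, 9],[(1,198,true),(0,331,true),(1,335,true)],[(0,335,true),(1,331,true),(0,209,true)]),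
  ([25, 14, 9],[(1,199,true),(0,331,true),(1,336,true)],[(0,336,true),(1,331,true),(0,210,true)]),
  ([25, 15, 9],[(1,200,true),(0,331,true),(1,337,true)],[(0,337,true),(1,331,true),(0,214,true)]),
  ([25, 16, 9],[(1,201,true),(0,331,true),(1,338,true),(2,342,true)],[(0,338,true),(1,331,true),(0,213,true)]),
  ([25, 17, 9],[(1,202,true),(0,331,true),(1,339,true)],[(0,339,true),(1,331,true),(0,215,true)]),
  ([25, 18, 9],[(1,203,true),(0,331,true),(1,340,true)],[(0,340,true),(1,331,true),(0,216,true)]),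
  ([25, 19, 9],[(1,204,true),(0,331,true),(1,341,true)],[(0,341,true),(1,331,true),(0,219,true)]),
  ([25, 21, 9],[(1,206,true),(0,331,true),(1,343,true)],[(0,343,true),(1,331,true),(0,217,true)]),
  ([25, 22, 9],[(1,207,true),(0,331,true),(1,344,true)],[(0,344,true),(1,331,true),(0,220,true)]),
  ([25, 23, 9],[(1,208,true),(0,331,true),(1,345,true)],[(0,345,true),(1,331,true),(0,221,true)]),
  ([25, 12, 11],[(1,222,true),(0,333,true),(1,334,true)],[(0,334,true),(1,333,true),(0,245,true)]),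
  ([25, 16, 11],[(1,226,true),(0,333,true),(1,338,true)],[(0,338,true),(1,333,true),(0,246,true)]),
  ([25, 19, 11],[(1,229,true),(0,333,true),(1,341,true)],[(0,341,true),(1,333,true),(0,252,true)]),
  ([25, 22, 11],[(1,232,true),(0,333,true),(1,344,true)],[(0,344,true),(1,333,true),(0,253,true)]),
  ([25, 23, 11],[(1,233,true),(0,333,true),(1,345,true)],[(0,345,true),(1,333,true),(0,254,true)]),
  ([25, 16, 12],[(1,237,true),(0,334,true),(1,338,true)],[(0,338,true),(1,334,true),(0,255,true)]),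
  ([25, 19, 12],[(1,240,true),(0,334,true),(1,341,true)],[(0,341,true),(1,334,true),(0,261,true)]),
  ([25, 22, 12],[(1,243,true),(0,334,true),(1,344,true)],[(0,344,true),(1,334,true),(0,262,true)]),
  ([25, 23, 12],[(1,244,true),(0,334,true),(1,345,true)],[(0,345,true),(1,334,true),(0,263,true)]),
  ([25, 19, 15],[(1,267,true),(0,337,true),(1,341,true)],[(0,341,true),(1,337,true),(0,276,true)]),
  ([25, 21, 15],[(1,269,true),(0,337,true),(1,343,true)],[(0,343,true),(1,337,true),(0,274,true)]),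
  ([25, 22, 15],[(1,270,true),(0,337,true),(1,344,true)],[(0,344,true),(1,337,true),(0,277,true)]),
  ([25, 23, 15],[(1,271,true),(0,337,true),(1,345,true)],[(0,345,true),(1,337,true),(0,278,true)]),
  ([26, 0, 0],[(1,0,true)],[(0,346,true),(1,346,true),(0,2,true)]),
  ([26, 3, 3],[(1,3,true)],[(0,348,true),(1,348,true),(0,4,true)]),
  ([26, 7, 7],[(1,7,true)],[(0,352,true),(1,352,true),(0,8,true)]),
  ([26, 14, 14],[(1,14,true)],[(0,359,true),(1,359,true),(0,15,true)]),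
  ([26, 21, 21],[(1,21,true)],[(0,366,true),(1,366,true),(0,22,true)]),
  ([26, 3, 0],[(1,26,true),(0,346,true),(1,348,true)],[(0,348,true),(1,346,true),(0,70,true)]),
  ([26, 5, 0],[(1,28,true),(0,346,true),(1,350,true)],[(0,350,true),(1,346,true),(0,71,true)]),
  ([26, 8, 0],[(1,31,true),(0,346,true),(1,353,true)],[(0,353,true),(1,346,true),(0,73,true)]),
  ([26, 9, 0],[(1,32,true),(0,346,true),(1,354,true)],[(0,354,true),(1,346,true),(0,75,true)])]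

def eqs6 : List (List ℕ × List Schur.StableCert.Step × List Schur.StableCert.Step) := [
  ([26, 11, 0],[(1,34,true),(0,346,true),(1,356,true),(2,357,true),(3,364,true)],[(0,356,true),(1,346,true),(0,76,true)]),
  ([26, 13, 0],[(1,36,true),(0,346,true),(1,358,true),(2,359,true),(3,366,true)],[(0,358,true),(1,346,true),(0,79,true)]),
  ([26, 14, 0],[(1,37,true),(0,346,true),(1,359,true)],[(0,359,true),(1,346,true),(0,81,true)]),
  ([26, 15, 0],[(1,38,true),(0,346,true),(1,360,true)],[(0,360,true),(1,346,true),(0,80,true)]),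
  ([26, 16, 0],[(1,39,true),(0,346,true),(1,361,true)],[(0,361,true),(1,346,true),(0,82,true)]),
  ([26, 17, 0],[(1,40,true),(0,346,true),(1,362,true),(2,363,true)],[(0,362,true),(1,346,true),(0,83,true)]),
  ([26, 21, 0],[(1,44,true),(0,346,true),(1,366,true)],[(0,366,true),(1,346,true),(0,88,true)]),
  ([26, 22, 0],[(1,45,true),(0,346,true),(1,367,true),(2,368,true)],[(0,367,true),(1,346,true),(0,87,true)]),
  ([26, 17, 2],[(1,83,true),(0,347,true),(1,362,true),(2,364,true)],[(0,362,true),(1,347,true),(0,40,true)]),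
  ([26, 5, 3],[(1,91,true),(0,348,true),(1,350,true)],[(0,350,true),(1,348,true),(0,110,true)]),
  ([26, 6, 3],[(1,92,true),(0,348,true),(1,351,true)],[(0,351,true),(1,348,true),(0,111,true)]),
  ([26, 7, 3],[(1,93,true),(0,348,true),(1,352,true)],[(0,352,true),(1,348,true),(0,113,true)]),
  ([26, 8, 3],[(1,94,true),(0,348,true),(1,353,true)],[(0,353,true),(1,348,true),(0,112,true)]),
  ([26, 12, 3],[(1,98,true),(0,348,true),(1,357,true),(2,359,true)],[(0,357,true),(1,348,true),(0,117,true)]),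
  ([26, 15, 3],[(1,101,true),(0,348,true),(1,360,true),(2,361,true)],[(0,360,true),(1,348,true),(0,119,true)]),
  ([26, 17, 3],[(1,103,true),(0,348,true),(1,362,true)],[(0,362,true),(1,348,true),(0,122,true)]),
  ([26, 18, 3],[(1,104,true),(0,348,true),(1,363,true)],[(0,363,true),(1,348,true),(0,124,true)]),
  ([26, 19, 3],[(1,105,true),(0,348,true),(1,364,true),(2,365,true),(3,366,true)],[(0,364,true),(1,348,true),(0,123,true)]),
  ([26, 20, 3],[(1,106,true),(0,348,true),(1,365,true)],[(0,365,true),(1,348,true),(0,125,true)]),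
  ([26, 21, 3],[(1,107,true),(0,348,true),(1,366,true)],[(0,366,true),(1,348,true),(0,127,true)]),
  ([26, 22, 3],[(1,108,true),(0,348,true),(1,367,true)],[(0,367,true),(1,348,true),(0,126,true)]),
  ([26, 23, 3],[(1,109,true),(0,348,true),(1,368,true)],[(0,368,true),(1,348,true),(0,128,true)]),
  ([26, 7, 5],[(1,130,true),(0,350,true),(1,352,true)],[(0,352,true),(1,350,true),(0,131,true)]),
  ([26, 9, 5],[(1,132,true),(0,350,true),(1,354,true),(2,357,true)],[(0,354,true),(1,350,true),(0,132,true)]),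
  ([26, 10, 5],[(1,133,true),(0,350,true),(1,355,true),(2,359,true)],[(0,355,true),(1,350,true),(0,134,true)]),
  ([26, 13, 5],[(1,136,true),(0,350,true),(1,358,true),(2,361,true)],[(0,358,true),(1,350,true),(0,136,true)]),
  ([26, 18, 5],[(1,141,true),(0,350,true),(1,363,true)],[(0,363,true),(1,350,true),(0,142,true)]),
  ([26, 21, 5],[(1,144,true),(0,350,true),(1,366,true)],[(0,366,true),(1,350,true),(0,145,true)]),
  ([26, 14, 6],[(1,154,true),(0,351,true),(1,359,true)],[(0,359,true),(1,351,true),(0,155,true)]),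
  ([26, 18, 6],[(1,158,true),(0,351,true),(1,363,true),(2,366,true)],[(0,363,true),(1,351,true),(0,159,true)]),
  ([26, 9, 7],[(1,165,true),(0,352,true),(1,354,true),(2,359,true),(3,363,true)],[(0,354,true),(1,352,true),(0,180,true)]),
  ([26, 14, 7],[(1,170,true),(0,352,true),(1,359,true)],[(0,359,true),(1,352,true),(0,186,true)]),
  ([26, 17, 7],[(1,173,true),(0,352,true),(1,362,true),(2,366,true)],[(0,362,true),(1,352,true),(0,188,true)]),
  ([26, 18, 7],[(1,174,true),(0,352,true),(1,363,true)],[(0,363,true),(1,352,true),(0,190,true)]),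
  ([26, 19, 7],[(1,175,true),(0,352,true),(1,364,true),(2,368,true)],[(0,364,true),(1,352,true),(0,189,true)]),
  ([26, 20, 7],[(1,176,true),(0,352,true),(1,365,true)],[(0,365,true),(1,352,true),(0,191,true)]),
  ([26, 14, 9],[(1,199,true),(0,354,true),(1,359,true)],[(0,359,true),(1,354,true),(0,200,true)]),
  ([26, 16, 9],[(1,201,true),(0,354,true),(1,361,true),(2,365,true)],[(0,361,true),(1,354,true),(0,201,true)]),
  ([26, 18, 9],[(1,203,true),(0,354,true),(1,363,true)],[(0,363,true),(1,354,true),(0,204,true)]),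
  ([26, 21, 14],[(1,261,true),(0,359,true),(1,366,true)],[(0,366,true),(1,359,true),(0,270,true)])]

def eqs7 : List (List ℕ × List Schur.StableCert.Step × List Schur.StableCert.Step) := [
  ([26, 23, 14],[(1,263,true),(0,359,true),(1,368,true)],[(0,368,true),(1,359,true),(0,271,true)]),
  ([27, 1, 1],[(1,1,true)],[(0,369,true),(1,369,true),(0,2,true)]),
  ([27, 4, 4],[(1,4,true)],[(0,372,true),(1,372,true),(0,5,true)]),
  ([27, 22, 22],[(1,22,true)],[(0,390,true),(1,390,true),(0,23,true)]),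
  ([27, 4, 1],[(1,49,true),(0,369,true),(1,372,true)],[(0,372,true),(1,369,true),(0,71,true)]),
  ([27, 5, 1],[(1,50,true),(0,369,true),(1,373,true)],[(0,373,true),(1,369,true),(0,70,true)]),
  ([27, 6, 1],[(1,51,true),(0,369,true),(1,374,true)],[(0,374,true),(1,369,true),(0,73,true)]),
  ([27, 9, 1],[(1,54,true),(0,369,true),(1,377,true)],[(0,377,true),(1,369,true),(0,75,true)]),
  ([27, 10, 1],[(1,55,true),(0,369,true),(1,378,true),(2,379,true),(3,385,true)],[(0,378,true),(1,369,true),(0,76,true)]),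
  ([27, 13, 1],[(1,58,true),(0,369,true),(1,381,true)],[(0,381,true),(1,369,true),(0,80,true)]),
  ([27, 14, 1],[(1,59,true),(0,369,true),(1,382,true),(2,383,true),(3,391,true)],[(0,382,true),(1,369,true),(0,79,true)]),
  ([27, 15, 1],[(1,60,true),(0,369,true),(1,383,true)],[(0,383,true),(1,369,true),(0,81,true)]),
  ([27, 21, 1],[(1,66,true),(0,369,true),(1,389,true),(2,390,true)],[(0,389,true),(1,369,true),(0,87,true)]),
  ([27, 23, 1],[(1,68,true),(0,369,true),(1,391,true)],[(0,391,true),(1,369,true),(0,88,true)]),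
  ([27, 21, 2],[(1,87,true),(0,370,true),(1,389,true),(2,391,true)],[(0,389,true),(1,370,true),(0,66,true)]),
  ([27, 4, 3],[(1,90,true),(0,371,true),(1,372,true)],[(0,372,true),(1,371,true),(0,91,true)]),
  ([27, 6, 3],[(1,92,true),(0,371,true),(1,374,true)],[(0,374,true),(1,371,true),(0,93,true)]),
  ([27, 11, 3],[(1,97,true),(0,371,true),(1,379,true),(2,381,true)],[(0,379,true),(1,371,true),(0,98,true)]),
  ([27, 15, 3],[(1,101,true),(0,371,true),(1,383,true),(2,384,true)],[(0,383,true),(1,371,true),(0,101,true)]),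
  ([27, 22, 3],[(1,108,true),(0,371,true),(1,390,true)],[(0,390,true),(1,371,true),(0,109,true)]),
  ([27, 9, 4],[(1,114,true),(0,372,true),(1,377,true),(2,379,true)],[(0,377,true),(1,372,true),(0,132,true)]),
  ([27, 10, 4],[(1,115,true),(0,372,true),(1,378,true),(2,381,true)],[(0,378,true),(1,372,true),(0,133,true)]),
  ([27, 12, 4],[(1,117,true),(0,372,true),(1,380,true),(2,383,true)],[(0,380,true),(1,372,true),(0,134,true)]),
  ([27, 14, 4],[(1,119,true),(0,372,true),(1,382,true),(2,384,true)],[(0,382,true),(1,372,true),(0,136,true)]),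
  ([27, 18, 4],[(1,123,true),(0,372,true),(1,386,true),(2,388,true),(3,390,true)],[(0,386,true),(1,372,true),(0,140,true)]),
  ([27, 20, 4],[(1,125,true),(0,372,true),(1,388,true)],[(0,388,true),(1,372,true),(0,143,true)]),
  ([27, 22, 4],[(1,127,true),(0,372,true),(1,390,true)],[(0,390,true),(1,372,true),(0,146,true)]),
  ([27, 9, 6],[(1,149,true),(0,374,true),(1,377,true),(2,381,true),(3,385,true)],[(0,377,true),(1,374,true),(0,165,true)]),
  ([27, 17, 8],[(1,188,true),(0,376,true),(1,385,true),(2,390,true)],[(0,385,true),(1,376,true),(0,189,true)]),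
  ([27, 16, 9],[(1,201,true),(0,377,true),(1,384,true),(2,388,true)],[(0,384,true),(1,377,true),(0,201,true)]),
  ([0, 6, 10, 15, 3, 12, 22],[(3,101,true),(2,96,true),(1,92,true),(5,237,true),(4,236,true)],[(0,392,true),(2,45,true),(1,35,true),(0,26,true),(4,163,true),(3,162,true),(2,152,true),(5,299,true),(6,23,true),(5,220,true),(4,214,true),(3,210,true),(6,270,true),(5,264,true)])]

def sels : List (List (ℕ × ℕ)) := [
  [(5,1),(9,1),(154,1),(231,1),(233,1)], [(5,1),(9,1),(154,1),(233,1),(281,1)], [(5,1),(9,1),(154,1),(233,1)],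
  [(19,1),(24,1),(71,1),(156,1),(232,1)], [(19,1),(24,1),(71,1),(156,1)], [(19,1),(24,1),(71,1),(156,1),(282,1)],
  [(5,1),(9,1),(153,1),(154,1),(233,1),(281,1)], [(5,1),(9,1),(233,1)], [(5,1),(9,1)],
  [(19,1),(24,1),(70,1),(71,1),(155,1),(156,1),(232,1)], [(19,1),(24,1),(70,1),(71,1),(156,1),(232,1)], [(19,1),(24,1),(156,1)],
  [(19,1),(24,1),(71,1),(72,1),(156,1),(282,1)], [(19,1),(24,1)], [(19,1),(24,1),(71,1),(72,1),(156,1),(157,1),(282,1)],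
  [(19,1),(24,1),(71,1),(72,1),(156,1),(157,1),(234,1),(282,1)], [(19,1),(24,1),(71,1),(72,1),(156,1),(157,1),(158,1),(234,1),(282,1)], [(5,1),(9,1),(73,1),(153,1),(154,1),(233,1),(281,1)],
  [(5,1),(9,1),(74,1),(233,1)], [(5,1),(9,1),(75,1)], [(19,1),(24,1),(71,1),(72,1),(76,1),(156,1),(157,1),(158,1),(234,1),(282,1)],
  [(5,1),(9,1),(75,1),(159,1)], [(5,1),(9,1),(75,1),(159,1),(235,1)], [(5,1),(9,1),(75,1),(159,1),(235,1),(283,1)],
  [], [(0,1),(5,1),(9,1),(154,1),(233,1)], [(11,1),(77,1),(160,1),(239,1)],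
  [], [(3,1),(237,1)], [],
  [(4,1),(5,1),(9,1),(233,1)], [(11,1),(15,1),(86,1),(102,1),(114,1),(169,1),(172,1),(238,1),(255,1),(286,1),(287,1)], [(11,1),(239,1)],
  [(11,1),(160,1),(239,1)], [], [(3,1),(79,1),(237,1)],
  [], [(3,1),(79,1),(162,1),(237,1)], [(11,1),(102,1),(114,1),(169,1),(172,1),(243,1),(255,1),(287,1),(289,1)],
  [(11,1),(102,1),(114,1),(163,1),(169,1),(172,1),(243,1),(255,1),(287,1),(289,1)], [], [(5,1),(9,1),(46,1),(74,1),(233,1)],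
  [(11,1),(15,1),(81,1),(86,1),(102,1),(114,1),(169,1),(172,1),(238,1),(255,1),(286,1),(287,1)], [(11,1),(83,1),(102,1),(114,1),(163,1),(169,1),(172,1),(243,1),(255,1),(287,1),(289,1)], [(11,1),(15,1),(81,1),(86,1),(102,1),(114,1),(165,1),(169,1),(172,1),(238,1),(255,1),(286,1),(287,1)],
  [], [(5,1),(9,1),(68,1),(75,1),(159,1),(235,1),(283,1)], [(1,1),(5,1),(9,1),(154,1),(233,1)],
  [], [(3,1),(284,1)], [(11,1),(77,1),(160,1),(236,1),(239,1),(285,1)],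
  [(11,1),(15,1),(86,1),(102,1),(114,1),(169,1),(172,1),(255,1),(287,1)], [], [(5,1)],
  [(11,1),(287,1)], [], [(3,1),(84,1),(284,1)],
  [(11,1),(77,1),(85,1),(160,1),(236,1),(239,1),(285,1)], [(11,1),(102,1),(114,1),(169,1),(172,1),(255,1),(287,1)], [],
  [(3,1),(79,1),(162,1),(237,1),(242,1),(291,1)], [(11,1),(77,1),(85,1),(160,1),(171,1),(175,1),(236,1),(239,1),(268,1),(285,1)], [(11,1),(15,1),(102,1),(114,1),(169,1),(172,1),(255,1),(287,1)],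
  [], [(5,1),(9,1),(54,1),(75,1)], [(11,1),(77,1),(85,1),(88,1),(160,1),(171,1),(175,1),(236,1),(239,1),(268,1),(285,1)],
  [], [(5,1),(9,1),(64,1),(75,1),(159,1),(235,1)], [(11,1),(15,1),(81,1),(86,1),(102,1),(114,1),(165,1),(169,1),(172,1),(238,1),(246,1),(255,1),(286,1),(287,1),(293,1)],
  [(5,1),(9,1),(19,1),(24,1),(71,1),(72,1),(75,1),(78,1),(80,1),(82,1),(87,1),(89,1),(100,1),(134,1),(156,1),(157,1),(159,1),(177,1),(191,1),(196,1),(200,1),(240,1),(248,1),(253,1),(263,1),(264,1),(282,1),(298,1),(303,1)], [(11,1),(77,1),(160,1),(236,1),(239,1)], [(3,1)],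
  [(5,1),(9,1),(19,1),(24,1),(71,1),(72,1),(75,1),(82,1),(87,1),(92,1),(100,1),(134,1),(156,1),(157,1),(159,1),(177,1),(191,1),(196,1),(200,1),(253,1),(264,1),(282,1),(298,1),(303,1)], [(11,1),(15,1),(86,1),(102,1),(114,1),(169,1),(172,1),(255,1),(286,1),(287,1)], [(5,1),(6,1),(9,1)],
  [(11,1)], [(5,1),(9,1),(19,1),(24,1),(71,1),(72,1),(75,1),(82,1),(100,1),(134,1),(156,1),(157,1),(159,1),(177,1),(191,1),(196,1),(200,1),(240,1),(248,1),(253,1),(263,1),(264,1),(282,1),(298,1),(303,1)], [(11,1),(77,1),(90,1),(160,1),(236,1),(239,1)],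
  [(3,1),(91,1)], [(5,1),(9,1),(19,1),(24,1),(71,1),(72,1),(75,1),(82,1),(100,1),(134,1),(156,1),(157,1),(159,1),(166,1),(179,1),(194,1),(206,1),(247,1),(253,1),(264,1),(269,1),(272,1),(274,1),(282,1),(290,1),(292,1),(294,1),(302,1),(308,1)], [(11,1),(102,1),(114,1),(169,1),(172,1),(255,1),(287,1),(289,1)],
  [(3,1),(79,1),(162,1),(237,1),(242,1)], [(11,1),(102,1),(114,1),(163,1),(169,1),(172,1),(243,1),(244,1),(255,1),(287,1),(289,1)], [(5,1),(9,1),(19,1),(24,1),(71,1),(72,1),(75,1),(82,1),(100,1),(134,1),(156,1),(157,1),(159,1),(177,1),(191,1),(196,1),(200,1),(253,1),(264,1),(282,1),(298,1),(303,1)],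
  [(11,1),(15,1),(86,1),(93,1),(102,1),(114,1),(169,1),(172,1),(255,1),(286,1),(287,1)], [(5,1),(9,1),(47,1),(75,1)], [(11,1),(94,1),(102,1),(114,1),(163,1),(169,1),(172,1),(243,1),(244,1),(255,1),(287,1),(289,1)],
  [(5,1),(9,1),(19,1),(24,1),(71,1),(72,1),(75,1),(82,1),(100,1),(134,1),(156,1),(157,1),(159,1),(166,1),(179,1),(194,1),(196,1),(200,1),(206,1),(247,1),(253,1),(264,1),(269,1),(272,1),(274,1),(282,1),(292,1),(298,1),(303,1),(308,1)], [(11,1),(15,1),(81,1),(86,1),(102,1),(114,1),(165,1),(169,1),(172,1),(238,1),(246,1),(255,1),(286,1),(287,1)], [(5,1),(9,1),(65,1),(75,1),(159,1),(235,1),(283,1)],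
  [(2,1),(11,1),(77,1),(160,1),(181,1),(236,1),(239,1),(252,1),(295,1)], [(2,1),(11,1),(77,1),(160,1),(181,1),(236,1),(239,1),(252,1)], [(3,1),(167,1),(250,1),(284,1)],
  [(3,1),(167,1),(250,1),(284,1),(296,1)], [(11,1),(77,1),(160,1),(181,1),(236,1),(239,1),(252,1)], [],
  [(12,1),(19,1),(24,1),(70,1),(71,1),(156,1),(232,1)], [], [],
  [(19,1)], [(19,1),(24,1),(28,1),(71,1),(72,1),(156,1),(157,1),(282,1)], [],
  [(19,1),(24,1),(40,1),(71,1),(72,1),(156,1),(157,1),(158,1),(234,1),(282,1)], [(11,1),(102,1),(169,1),(287,1)], [(11,1),(103,1),(183,1)],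
  [], [(2,1),(11,1),(77,1),(96,1),(105,1),(160,1),(181,1),(209,1),(210,1),(236,1),(239,1),(252,1),(276,1)], [(3,1),(98,1),(106,1),(167,1),(213,1),(214,1),(250,1),(278,1),(284,1),(296,1)],
  [(11,1),(103,1),(183,1),(198,1),(256,1),(260,1)], [(11,1),(103,1),(183,1),(198,1),(256,1),(260,1),(299,1)], [(2,1),(11,1),(77,1),(160,1),(181,1),(236,1),(239,1),(249,1),(252,1)],
  [(3,1),(167,1),(284,1)], [(11,1),(77,1),(160,1),(181,1),(236,1),(239,1)], [(3,1),(167,1),(250,1),(251,1),(284,1),(296,1)],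
  [], [(196,1),(200,1),(253,1),(264,1),(297,1),(298,1),(301,1),(303,1)], [(13,1),(19,1),(24,1),(156,1)],
  [(2,1),(3,1),(5,1),(9,1),(12,1),(15,1),(19,1),(24,1),(31,1),(42,1),(60,1),(69,1),(70,1),(71,1),(75,1),(79,1),(81,1),(86,1),(96,1),(102,1),(103,1),(105,1),(107,1),(114,1),(122,1),(126,1),(156,1),(158,1),(159,1),(165,1),(166,1),(167,1),(169,1),(172,1),(173,1),(180,1),(181,1),(182,1),(183,1),(196,1),(198,1),(224,1),(232,1),(235,1),(236,1),(237,1),(238,1),(246,1),(250,1),(252,1),(254,1),(255,1),(256,1),(258,1),(260,1),(262,1),(265,1),(279,1),(284,1),(286,1),(287,1),(293,1),(305,1),(310,1),(311,1)], [(19,1),(20,1),(24,1)], [(254,1),(265,1)],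
  [(19,1),(24,1),(29,1),(71,1),(72,1),(156,1),(157,1),(234,1),(282,1)], [(19,1),(24,1),(36,1),(71,1),(72,1),(156,1),(157,1),(158,1),(234,1),(282,1)], [(11,1),(102,1),(169,1),(255,1),(287,1)],
  [(2,1),(3,1),(12,1),(15,1),(31,1),(42,1),(60,1),(69,1),(70,1),(72,1),(79,1),(81,1),(82,1),(86,1),(96,1),(100,1),(102,1),(103,1),(105,1),(107,1),(114,1),(122,1),(126,1),(134,1),(157,1),(158,1),(165,1),(167,1),(169,1),(172,1),(173,1),(179,1),(180,1),(181,1),(182,1),(183,1),(194,1),(196,1),(198,1),(206,1),(224,1),(232,1),(235,1),(236,1),(237,1),(238,1),(241,1),(246,1),(247,1),(250,1),(252,1),(254,1),(255,1),(256,1),(257,1),(258,1),(260,1),(262,1),(264,1),(265,1),(269,1),(272,1),(274,1),(277,1),(279,1),(282,1),(284,1),(286,1),(287,1),(290,1),(292,1),(293,1),(294,1),(302,1),(305,1),(308,1),(310,1),(311,1)], [(11,1),(103,1),(183,1),(256,1)], [(2,1),(11,1),(77,1),(96,1),(105,1),(160,1),(181,1),(209,1),(210,1),(236,1),(239,1),(252,1),(258,1),(276,1)],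
  [(11,1),(103,1),(183,1),(198,1),(256,1)], [(3,1),(98,1),(106,1),(167,1),(213,1),(214,1),(250,1),(259,1),(278,1),(284,1),(296,1)], [(11,1),(103,1),(183,1),(198,1),(256,1),(260,1),(261,1),(299,1)],
  [(11,1),(77,1),(160,1),(168,1),(236,1),(239,1),(285,1)], [(3,1),(182,1)], [(3,1),(182,1),(262,1)],
  [(2,1),(3,1),(12,1),(15,1),(31,1),(42,1),(60,1),(69,1),(70,1),(72,1),(79,1),(81,1),(82,1),(86,1),(96,1),(100,1),(102,1),(103,1),(105,1),(107,1),(114,1),(122,1),(126,1),(134,1),(157,1),(158,1),(161,1),(165,1),(167,1),(169,1),(172,1),(173,1),(177,1),(180,1),(181,1),(182,1),(183,1),(194,1),(198,1),(199,1),(200,1),(224,1),(232,1),(235,1),(236,1),(237,1),(238,1),(241,1),(246,1),(247,1),(250,1),(252,1),(253,1),(254,1),(255,1),(256,1),(258,1),(260,1),(262,1),(265,1),(272,1),(274,1),(279,1),(282,1),(284,1),(286,1),(287,1),(290,1),(292,1),(293,1),(294,1),(298,1),(302,1),(303,1),(305,1),(308,1),(310,1),(311,1)],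 [(196,1),(200,1),(253,1),(264,1),(298,1),(303,1)], [(2,1),(3,1),(5,1),(9,1),(12,1),(15,1),(19,1),(24,1),(31,1),(42,1),(60,1),(69,1),(70,1),(71,1),(75,1),(79,1),(81,1),(86,1),(96,1),(102,1),(103,1),(105,1),(107,1),(114,1),(122,1),(126,1),(156,1),(158,1),(159,1),(165,1),(166,1),(167,1),(169,1),(172,1),(173,1),(180,1),(181,1),(182,1),(183,1),(198,1),(200,1),(224,1),(232,1),(235,1),(236,1),(237,1),(238,1),(246,1),(250,1),(252,1),(254,1),(255,1),(256,1),(258,1),(260,1),(262,1),(265,1),(279,1),(284,1),(286,1),(287,1),(293,1),(298,1),(303,1),(305,1),(310,1),(311,1)],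
  [(14,1),(19,1),(24,1),(71,1),(72,1),(156,1),(282,1)], [(254,1),(265,1),(298,1),(303,1)], [(19,1),(21,1),(24,1),(71,1),(72,1),(156,1),(157,1),(282,1)],
  [(19,1),(24,1),(25,1),(71,1),(72,1),(156,1),(157,1),(234,1),(282,1)], [(19,1),(24,1),(32,1),(71,1),(72,1),(156,1),(157,1),(158,1),(234,1),(282,1)], [(2,1),(3,1),(5,1),(9,1),(12,1),(15,1),(19,1),(24,1),(31,1),(42,1),(60,1),(69,1),(70,1),(71,1),(75,1),(79,1),(81,1),(86,1),(96,1),(102,1),(103,1),(105,1),(107,1),(114,1),(122,1),(126,1),(156,1),(158,1),(159,1),(165,1),(166,1),(167,1),(169,1),(172,1),(173,1),(180,1),(181,1),(182,1),(183,1),(198,1),(200,1),(224,1),(232,1),(235,1),(236,1),(237,1),(238,1),(241,1),(246,1),(250,1),(252,1),(253,1),(254,1),(255,1),(256,1),(257,1),(258,1),(260,1),(262,1),(265,1),(277,1),(279,1),(284,1),(286,1),(287,1),(290,1),(292,1),(293,1),(294,1),(298,1),(302,1),(303,1),(304,1),(305,1),(309,1),(310,1),(311,1)],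
  [(11,1),(102,1),(114,1),(124,1),(169,1),(172,1),(188,1),(255,1),(287,1),(289,1)], [(11,1),(102,1),(114,1),(124,1),(169,1),(172,1),(188,1),(255,1),(266,1),(287,1),(289,1)], [(2,1),(11,1),(77,1),(96,1),(105,1),(160,1),(181,1),(209,1),(210,1),(236,1),(239,1),(252,1),(258,1),(276,1),(305,1)],
  [(11,1),(102,1),(114,1),(124,1),(169,1),(172,1),(188,1),(201,1),(255,1),(266,1),(287,1),(289,1)], [(11,1),(102,1),(114,1),(124,1),(169,1),(172,1),(188,1),(201,1),(255,1),(266,1),(267,1),(287,1),(289,1)], [(3,1),(98,1),(106,1),(167,1),(213,1),(214,1),(250,1),(259,1),(278,1),(284,1),(296,1),(306,1)],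
  [(5,1),(7,1),(9,1),(233,1)], [(5,1),(8,1),(9,1)], [(164,1),(184,1),(196,1),(199,1),(200,1),(253,1),(264,1),(288,1),(297,1),(298,1),(300,1),(303,1),(307,1)],
  [(11,1),(169,1),(287,1)], [(11,1),(102,1),(114,1),(169,1),(255,1),(287,1)], [(2,1),(3,1),(5,1),(9,1),(12,1),(15,1),(19,1),(24,1),(31,1),(42,1),(60,1),(69,1),(70,1),(71,1),(75,1),(79,1),(81,1),(86,1),(96,1),(102,1),(103,1),(105,1),(107,1),(114,1),(122,1),(126,1),(156,1),(158,1),(159,1),(165,1),(167,1),(169,1),(172,1),(180,1),(181,1),(182,1),(183,1),(198,1),(224,1),(232,1),(235,1),(236,1),(237,1),(238,1),(246,1),(250,1),(252,1),(255,1),(256,1),(258,1),(260,1),(262,1),(279,1),(284,1),(286,1),(287,1),(293,1),(305,1),(310,1),(311,1)],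
  [(3,1),(84,1),(170,1),(284,1)], [(11,1),(77,1),(85,1),(160,1),(171,1),(236,1),(239,1),(285,1)], [(11,1),(77,1),(85,1),(160,1),(171,1),(236,1),(239,1),(268,1),(285,1)],
  [(3,1),(79,1),(162,1),(174,1),(237,1),(242,1),(291,1)], [(11,1),(15,1),(102,1),(114,1),(169,1),(172,1),(176,1),(255,1),(287,1)], [(2,1),(3,1),(12,1),(15,1),(31,1),(42,1),(60,1),(69,1),(70,1),(72,1),(79,1),(81,1),(82,1),(86,1),(96,1),(100,1),(102,1),(103,1),(105,1),(107,1),(114,1),(122,1),(126,1),(134,1),(157,1),(158,1),(165,1),(167,1),(169,1),(172,1),(173,1),(180,1),(181,1),(182,1),(183,1),(194,1),(196,1),(198,1),(224,1),(232,1),(235,1),(236,1),(237,1),(238,1),(241,1),(246,1),(247,1),(250,1),(252,1),(254,1),(255,1),(256,1),(258,1),(260,1),(262,1),(264,1),(265,1),(272,1),(274,1),(279,1),(282,1),(284,1),(286,1),(287,1),(290,1),(292,1),(293,1),(294,1),(302,1),(305,1),(308,1),(310,1),(311,1)],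
  [(179,1),(206,1)], [(11,1),(77,1),(85,1),(88,1),(160,1),(171,1),(175,1),(178,1),(236,1),(239,1),(268,1),(285,1)], [(5,1),(9,1),(55,1),(75,1),(159,1)],
  [(5,1),(9,1),(60,1),(75,1),(159,1),(235,1)], [(11,1),(15,1),(81,1),(86,1),(102,1),(114,1),(165,1),(169,1),(172,1),(180,1),(238,1),(246,1),(255,1),(286,1),(287,1),(293,1)], [(5,1),(9,1),(10,1)],
  [(2,1),(3,1),(5,1),(9,1),(12,1),(15,1),(19,1),(24,1),(31,1),(42,1),(60,1),(69,1),(70,1),(71,1),(75,1),(79,1),(81,1),(86,1),(96,1),(102,1),(103,1),(105,1),(107,1),(114,1),(122,1),(126,1),(156,1),(158,1),(159,1),(161,1),(164,1),(165,1),(167,1),(169,1),(172,1),(173,1),(180,1),(181,1),(182,1),(183,1),(184,1),(191,1),(194,1),(198,1),(200,1),(224,1),(232,1),(235,1),(236,1),(237,1),(238,1),(240,1),(241,1),(246,1),(247,1),(248,1),(250,1),(252,1),(253,1),(254,1),(255,1),(256,1),(258,1),(260,1),(262,1),(263,1),(265,1),(272,1),(274,1),(279,1),(284,1),(286,1),(287,1),(290,1),(292,1),(293,1),(294,1),(298,1),(302,1),(303,1),(305,1),(308,1),(310,1),(311,1)],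 [(11,1),(183,1)], [(2,1),(3,1),(12,1),(15,1),(31,1),(42,1),(60,1),(69,1),(70,1),(72,1),(79,1),(81,1),(82,1),(86,1),(96,1),(100,1),(102,1),(103,1),(105,1),(107,1),(114,1),(122,1),(126,1),(134,1),(157,1),(158,1),(165,1),(167,1),(169,1),(172,1),(173,1),(179,1),(180,1),(181,1),(182,1),(183,1),(187,1),(194,1),(198,1),(224,1),(232,1),(235,1),(236,1),(237,1),(238,1),(246,1),(247,1),(250,1),(252,1),(253,1),(255,1),(256,1),(258,1),(260,1),(262,1),(264,1),(269,1),(272,1),(274,1),(279,1),(282,1),(284,1),(286,1),(287,1),(290,1),(292,1),(293,1),(294,1),(302,1),(305,1),(308,1),(310,1),(311,1)],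
  [(11,1),(102,1),(114,1),(169,1),(172,1),(188,1),(255,1),(287,1),(289,1)], [(11,1),(77,1),(90,1),(160,1),(185,1),(236,1),(239,1)], [(3,1),(91,1),(186,1)],
  [(11,1),(102,1),(114,1),(163,1),(169,1),(172,1),(190,1),(243,1),(244,1),(255,1),(287,1),(289,1)], [(3,1),(79,1),(162,1),(189,1),(237,1),(242,1)], [(2,1),(3,1),(5,1),(9,1),(12,1),(15,1),(19,1),(24,1),(31,1),(42,1),(60,1),(69,1),(70,1),(71,1),(75,1),(79,1),(81,1),(86,1),(96,1),(102,1),(103,1),(105,1),(107,1),(114,1),(122,1),(126,1),(156,1),(158,1),(159,1),(165,1),(167,1),(169,1),(172,1),(173,1),(180,1),(181,1),(182,1),(183,1),(194,1),(198,1),(200,1),(224,1),(232,1),(235,1),(236,1),(237,1),(238,1),(241,1),(246,1),(247,1),(250,1),(252,1),(253,1),(254,1),(255,1),(256,1),(258,1),(260,1),(262,1),(265,1),(272,1),(274,1),(279,1),(284,1),(286,1),(287,1),(290,1),(292,1),(293,1),(294,1),(298,1),(302,1),(303,1),(305,1),(308,1),(310,1),(311,1)],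
  [(11,1),(15,1),(86,1),(93,1),(102,1),(114,1),(169,1),(172,1),(192,1),(255,1),(286,1),(287,1)], [(5,1),(9,1),(19,1),(24,1),(71,1),(72,1),(75,1),(82,1),(100,1),(134,1),(156,1),(157,1),(159,1),(179,1),(196,1),(200,1),(206,1),(247,1),(253,1),(264,1),(269,1),(272,1),(274,1),(282,1),(292,1),(298,1),(303,1),(308,1)], [(11,1),(94,1),(102,1),(114,1),(163,1),(169,1),(172,1),(193,1),(243,1),(244,1),(255,1),(287,1),(289,1)],
  [(5,1),(9,1),(48,1),(75,1),(159,1)], [(11,1),(15,1),(81,1),(86,1),(102,1),(114,1),(165,1),(169,1),(172,1),(195,1),(238,1),(246,1),(255,1),(286,1),(287,1)], [(5,1),(9,1),(61,1),(75,1),(159,1),(235,1),(283,1)],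
  [(5,1),(9,1),(19,1),(24,1),(71,1),(72,1),(75,1),(82,1),(100,1),(134,1),(156,1),(157,1),(159,1),(161,1),(164,1),(166,1),(177,1),(184,1),(194,1),(240,1),(241,1),(245,1),(247,1),(248,1),(253,1),(263,1),(264,1),(270,1),(272,1),(274,1),(282,1),(290,1),(292,1),(294,1),(302,1),(308,1)], [(161,1),(164,1),(184,1),(196,1),(202,1),(240,1),(245,1),(248,1),(253,1),(254,1),(263,1),(265,1),(270,1)], [(11,1),(103,1),(115,1),(183,1),(256,1)],
  [(11,1),(102,1),(114,1),(124,1),(125,1),(169,1),(172,1),(188,1),(255,1),(266,1),(287,1),(289,1)], [(11,1),(103,1),(115,1),(183,1),(203,1),(256,1)], [(11,1),(102,1),(114,1),(124,1),(125,1),(169,1),(172,1),(188,1),(204,1),(255,1),(266,1),(287,1),(289,1)],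
  [(3,1),(91,1),(186,1),(271,1)], [(3,1),(91,1),(186,1),(205,1),(271,1)], [(5,1),(9,1),(19,1),(24,1),(71,1),(72,1),(75,1),(82,1),(100,1),(134,1),(156,1),(157,1),(159,1),(179,1),(196,1),(200,1),(206,1),(253,1),(264,1),(269,1),(272,1),(282,1),(298,1),(303,1)],
  [(166,1),(194,1),(247,1),(274,1)], [(11,1),(15,1),(86,1),(93,1),(102,1),(114,1),(169,1),(172,1),(192,1),(255,1),(273,1),(286,1),(287,1)], [(11,1),(94,1),(102,1),(114,1),(163,1),(169,1),(172,1),(193,1),(243,1),(244,1),(255,1),(275,1),(287,1),(289,1)],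
  [(11,1),(15,1),(86,1),(93,1),(102,1),(114,1),(169,1),(172,1),(192,1),(207,1),(255,1),(273,1),(286,1),(287,1)], [(5,1),(9,1),(49,1),(75,1),(159,1),(235,1)], [(5,1),(9,1),(56,1),(75,1),(159,1),(235,1),(283,1)],
  [(16,1),(19,1),(24,1),(70,1),(71,1),(156,1),(232,1)], [(17,1),(19,1),(24,1),(156,1)], [(18,1),(19,1),(24,1),(71,1),(72,1),(156,1),(282,1)],
  [(2,1),(11,1),(77,1),(95,1),(160,1),(181,1),(208,1),(236,1),(239,1),(252,1),(295,1)], [(2,1),(11,1),(77,1),(96,1),(160,1),(181,1),(209,1),(236,1),(239,1),(252,1)], [(2,1),(11,1),(77,1),(96,1),(160,1),(181,1),(209,1),(236,1),(239,1),(252,1),(276,1)],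
  [(3,1),(5,1),(9,1),(75,1),(82,1),(91,1),(100,1),(104,1),(145,1),(149,1),(158,1),(159,1),(161,1),(164,1),(184,1),(186,1),(197,1),(200,1),(202,1),(206,1),(211,1),(227,1),(234,1),(240,1),(245,1),(248,1),(254,1),(263,1),(264,1),(265,1),(270,1),(271,1),(298,1),(303,1)], [(3,1),(97,1),(167,1),(212,1),(250,1),(284,1)], [(3,1),(98,1),(167,1),(213,1),(250,1),(284,1),(296,1)],
  [(3,1),(98,1),(167,1),(213,1),(250,1),(278,1),(284,1),(296,1)], [(19,1),(24,1),(44,1),(71,1),(72,1),(76,1),(156,1),(157,1),(158,1),(234,1),(282,1)], [(11,1),(77,1),(99,1),(160,1),(181,1),(215,1),(236,1),(239,1),(252,1)],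
  [(11,1),(103,1),(107,1),(183,1),(198,1),(216,1),(256,1),(260,1)], [(11,1),(103,1),(108,1),(183,1),(198,1),(217,1),(256,1),(260,1),(299,1)], [(2,1),(11,1),(77,1),(95,1),(160,1),(181,1),(236,1),(239,1),(252,1),(295,1)],
  [(2,1),(11,1),(77,1),(96,1),(160,1),(181,1),(236,1),(239,1),(252,1)], [(19,1),(22,1),(24,1)], [(19,1),(23,1),(24,1),(71,1),(72,1),(156,1),(157,1),(282,1)],
  [(3,1),(5,1),(9,1),(75,1),(82,1),(91,1),(100,1),(104,1),(145,1),(149,1),(158,1),(159,1),(161,1),(164,1),(184,1),(186,1),(200,1),(202,1),(227,1),(234,1),(240,1),(245,1),(248,1),(254,1),(263,1),(264,1),(265,1),(270,1),(271,1),(298,1),(303,1)], [(2,1),(11,1),(77,1),(96,1),(160,1),(181,1),(209,1),(210,1),(236,1),(239,1),(252,1),(276,1)], [(3,1),(97,1),(167,1),(250,1),(284,1)],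
  [(3,1),(98,1),(167,1),(250,1),(284,1),(296,1)], [(11,1),(77,1),(99,1),(160,1),(181,1),(236,1),(239,1),(252,1)], [(19,1),(24,1),(41,1),(71,1),(72,1),(76,1),(156,1),(157,1),(158,1),(234,1),(282,1)],
  [(3,1),(98,1),(167,1),(213,1),(214,1),(250,1),(278,1),(284,1),(296,1)], [(11,1),(103,1),(107,1),(183,1),(198,1),(256,1),(260,1)], [(11,1),(103,1),(108,1),(183,1),(198,1),(256,1),(260,1),(299,1)],
  [(2,1),(11,1),(77,1),(109,1),(160,1),(181,1),(236,1),(239,1),(249,1),(252,1)], [(19,1),(24,1),(26,1)], [(3,1),(5,1),(9,1),(75,1),(82,1),(91,1),(100,1),(101,1),(104,1),(113,1),(145,1),(149,1),(158,1),(159,1),(161,1),(164,1),(184,1),(186,1),(200,1),(202,1),(227,1),(234,1),(240,1),(245,1),(248,1),(263,1),(264,1),(270,1),(271,1),(298,1),(303,1)],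
  [(19,1),(24,1),(27,1),(71,1),(72,1),(156,1),(157,1),(234,1),(282,1)], [(2,1),(11,1),(77,1),(96,1),(105,1),(116,1),(160,1),(181,1),(209,1),(210,1),(236,1),(239,1),(252,1),(258,1),(276,1)], [(3,1),(110,1),(167,1),(284,1)],
  [(11,1),(77,1),(111,1),(160,1),(181,1),(236,1),(239,1)], [(3,1),(112,1),(167,1),(250,1),(251,1),(284,1),(296,1)], [(19,1),(24,1),(37,1),(71,1),(72,1),(76,1),(156,1),(157,1),(158,1),(234,1),(282,1)],
  [(11,1),(103,1),(117,1),(183,1),(198,1),(256,1)], [(3,1),(98,1),(106,1),(118,1),(167,1),(213,1),(214,1),(250,1),(259,1),(278,1),(284,1),(296,1)], [(11,1),(103,1),(119,1),(183,1),(198,1),(256,1),(260,1),(261,1),(299,1)],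
  [(3,1),(5,1),(9,1),(75,1),(82,1),(91,1),(100,1),(101,1),(104,1),(123,1),(145,1),(149,1),(158,1),(159,1),(161,1),(164,1),(184,1),(186,1),(200,1),(202,1),(227,1),(234,1),(240,1),(245,1),(248,1),(263,1),(264,1),(270,1),(271,1)], [(19,1),(24,1),(30,1),(71,1),(72,1),(156,1),(157,1),(282,1)], [(19,1),(24,1),(31,1),(71,1),(72,1),(156,1),(157,1),(234,1),(282,1)],
  [(2,1),(11,1),(77,1),(96,1),(105,1),(126,1),(160,1),(181,1),(209,1),(210,1),(236,1),(239,1),(252,1),(258,1),(276,1),(305,1)], [(11,1),(77,1),(120,1),(160,1),(168,1),(236,1),(239,1),(285,1)], [(3,1),(121,1),(182,1)],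
  [(3,1),(122,1),(182,1),(262,1)], [(19,1),(24,1),(33,1),(71,1),(72,1),(76,1),(156,1),(157,1),(158,1),(234,1),(282,1)], [(11,1),(102,1),(114,1),(124,1),(127,1),(169,1),(172,1),(188,1),(201,1),(255,1),(266,1),(287,1),(289,1)],
  [(11,1),(102,1),(114,1),(124,1),(128,1),(169,1),(172,1),(188,1),(201,1),(255,1),(266,1),(267,1),(287,1),(289,1)], [(3,1),(98,1),(106,1),(129,1),(167,1),(213,1),(214,1),(250,1),(259,1),(278,1),(284,1),(296,1),(306,1)], [(2,1),(11,1),(77,1),(109,1),(160,1),(181,1),(218,1),(236,1),(239,1),(249,1),(252,1)],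
  [(2,1),(11,1),(77,1),(96,1),(105,1),(116,1),(160,1),(181,1),(209,1),(210,1),(219,1),(236,1),(239,1),(252,1),(258,1),(276,1)], [(19,1),(24,1),(34,1),(71,1),(72,1),(156,1),(157,1),(158,1),(234,1),(282,1)], [(3,1),(84,1),(130,1),(170,1),(284,1)],
  [(11,1),(77,1),(90,1),(137,1),(160,1),(185,1),(236,1),(239,1)], [(11,1),(103,1),(115,1),(143,1),(183,1),(203,1),(256,1)], [(19,1),(24,1),(35,1),(71,1),(72,1),(76,1),(156,1),(157,1),(158,1),(234,1),(282,1)],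
  [(3,1),(112,1),(167,1),(220,1),(250,1),(251,1),(284,1),(296,1)], [(3,1),(98,1),(106,1),(118,1),(167,1),(213,1),(214,1),(221,1),(250,1),(259,1),(278,1),(284,1),(296,1)], [(11,1),(103,1),(119,1),(183,1),(198,1),(222,1),(256,1),(260,1),(261,1),(299,1)],
  [(2,1),(11,1),(77,1),(96,1),(105,1),(126,1),(160,1),(181,1),(209,1),(210,1),(223,1),(236,1),(239,1),(252,1),(258,1),(276,1),(305,1)], [(19,1),(24,1),(38,1),(71,1),(72,1),(156,1),(157,1),(158,1),(234,1),(282,1)], [(11,1),(77,1),(85,1),(131,1),(160,1),(171,1),(236,1),(239,1),(285,1)],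
  [(3,1),(91,1),(138,1),(186,1)], [(11,1),(102,1),(114,1),(124,1),(125,1),(144,1),(169,1),(172,1),(188,1),(204,1),(255,1),(266,1),(287,1),(289,1)], [(19,1),(24,1),(39,1),(71,1),(72,1),(76,1),(156,1),(157,1),(158,1),(234,1),(282,1)],
  [(3,1),(122,1),(182,1),(224,1),(262,1)], [(11,1),(102,1),(114,1),(124,1),(128,1),(169,1),(172,1),(188,1),(201,1),(225,1),(255,1),(266,1),(267,1),(287,1),(289,1)], [(3,1),(98,1),(106,1),(129,1),(167,1),(213,1),(214,1),(226,1),(250,1),(259,1),(278,1),(284,1),(296,1),(306,1)],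
  [(19,1),(24,1),(42,1),(71,1),(72,1),(156,1),(157,1),(158,1),(234,1),(282,1)], [(11,1),(77,1),(85,1),(132,1),(160,1),(171,1),(236,1),(239,1),(268,1),(285,1)], [(11,1),(102,1),(114,1),(139,1),(163,1),(169,1),(172,1),(190,1),(243,1),(244,1),(255,1),(287,1),(289,1)],
  [(3,1),(91,1),(145,1),(186,1),(271,1)], [(19,1),(24,1),(43,1),(71,1),(72,1),(76,1),(156,1),(157,1),(158,1),(234,1),(282,1)], [(11,1),(94,1),(102,1),(114,1),(147,1),(163,1),(169,1),(172,1),(193,1),(228,1),(243,1),(244,1),(255,1),(275,1),(287,1),(289,1)],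
  [(3,1),(122,1),(182,1),(224,1),(262,1),(279,1)], [(3,1),(98,1),(106,1),(129,1),(167,1),(213,1),(214,1),(226,1),(250,1),(259,1),(278,1),(280,1),(284,1),(296,1),(306,1)], [(11,1),(77,1),(85,1),(88,1),(135,1),(160,1),(171,1),(175,1),(178,1),(236,1),(239,1),(268,1),(285,1)],
  [(11,1),(94,1),(102,1),(114,1),(141,1),(163,1),(169,1),(172,1),(193,1),(243,1),(244,1),(255,1),(287,1),(289,1)], [(11,1),(94,1),(102,1),(114,1),(147,1),(163,1),(169,1),(172,1),(193,1),(243,1),(244,1),(255,1),(275,1),(287,1),(289,1)], [(19,1),(24,1),(45,1),(71,1),(72,1),(76,1),(156,1),(157,1),(158,1),(234,1),(282,1)],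
  [(3,1),(91,1),(145,1),(186,1),(227,1),(271,1)], [(3,1),(122,1),(182,1),(224,1),(229,1),(262,1),(279,1)], [(3,1),(98,1),(106,1),(129,1),(167,1),(213,1),(214,1),(226,1),(230,1),(250,1),(259,1),(278,1),(280,1),(284,1),(296,1),(306,1)],
  [(5,1),(9,1),(50,1),(74,1),(233,1)], [(5,1),(9,1),(51,1),(75,1)], [(3,1),(79,1),(133,1),(162,1),(174,1),(237,1),(242,1),(291,1)],
  [(5,1),(9,1),(52,1),(75,1),(159,1)], [(5,1),(9,1),(53,1),(75,1),(159,1),(235,1)], [(11,1),(15,1),(81,1),(86,1),(102,1),(114,1),(136,1),(165,1),(169,1),(172,1),(180,1),(238,1),(246,1),(255,1),(286,1),(287,1),(293,1)],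
  [(5,1),(9,1),(57,1),(75,1)], [(3,1),(79,1),(140,1),(162,1),(189,1),(237,1),(242,1)], [(5,1),(9,1),(58,1),(75,1),(159,1)],
  [(11,1),(15,1),(81,1),(86,1),(102,1),(114,1),(142,1),(165,1),(169,1),(172,1),(195,1),(238,1),(246,1),(255,1),(286,1),(287,1)], [(5,1),(9,1),(59,1),(75,1),(159,1),(235,1),(283,1)], [(3,1),(91,1),(146,1),(186,1),(205,1),(271,1)],
  [(11,1),(15,1),(86,1),(93,1),(102,1),(114,1),(148,1),(169,1),(172,1),(192,1),(207,1),(255,1),(273,1),(286,1),(287,1)], [(5,1),(9,1),(62,1),(75,1),(159,1),(235,1)], [(5,1),(9,1),(63,1),(75,1),(159,1),(235,1),(283,1)],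
  [(3,1),(91,1),(145,1),(150,1),(186,1),(227,1),(271,1)], [(3,1),(122,1),(151,1),(182,1),(224,1),(229,1),(262,1),(279,1)], [(3,1),(98,1),(106,1),(129,1),(152,1),(167,1),(213,1),(214,1),(226,1),(230,1),(250,1),(259,1),(278,1),(280,1),(284,1),(296,1),(306,1)],
  [(5,1),(9,1),(66,1),(75,1),(159,1),(235,1)], [(5,1),(9,1),(67,1),(75,1),(159,1),(235,1),(283,1)], [(5,1),(9,1),(69,1),(75,1),(159,1),(235,1),(283,1)]]

def adjs : List (List ℕ) := [
  [],
  [],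
  [0, 0, 0, 0, 0, 0, 0, 0, 0, 0, 0, 0, 0, 0, 0, 0, 0, 0, 0, 0, 0, 0, 0, 0, 1],
  [],
  [0, 0, 0, 0, 0, 0, 0, 0, 0, 0, 0, 0, 0, 0, 0, 0, 0, 0, 0, 0, 0, 0, 0, 0, 0, 0, 0, 0, 0, 0, 0, 0, 0, 0, 0, 0, 0, 0, 0, 0, 0, 0, 0, 0, 0, 0, 0, 0, 1],
  [0, 0, 0, 0, 0, 0, 0, 0, 0, 0, 0, 0, 0, 0, 0, 0, 0, 0, 0, 0, 0, 0, 0, 0, 0, 0, 0, 1, 0, 0, 0, 0, 0, 0, 0, 0, 0, 0, 0, 0, 0, 0, 0, 0, 0, 0, 0, 0, 0, 0, 0, 0, 1],
  [],
  [0, 0, 0, 0, 0, 0, 0, 0, 0, 0, 0, 0, 0, 0, 0, 0, 0, 0, 0, 0, 0, 0, 0, 0, 0, 0, 0, 0, 0, 1],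
  [0, 0, 0, 0, 0, 0, 0, 0, 0, 0, 0, 0, 0, 0, 0, 0, 0, 0, 0, 0, 0, 0, 0, 0, 0, 0, 0, 0, 0, 0, 0, 0, 0, 0, 0, 0, 0, 0, 0, 0, 0, 0, 0, 0, 0, 0, 0, 0, 0, 0, 0, 0, 1],
  [],
  [0, 0, 0, 0, 0, 0, 0, 0, 0, 0, 0, 0, 0, 0, 0, 0, 0, 0, 0, 0, 0, 0, 0, 0, 0, 0, 0, 0, 0, 0, 0, 0, 0, 0, 0, 0, 0, 0, 0, 0, 0, 0, 0, 0, 0, 0, 0, 0, 0, 0, 0, 0, 0, 0, 0, 0, 0, 0, 0, 0, 0, 0, 0, 0, 0, 0, 0, 0, 0, 0, 0, 0, 0, 0, 0, 0, 0, 0, 0, 0, 0, 0, 0, 0, 0, 0, 0, 0, 0, 0, 0, 0, 0, 0, 0, 1],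
  [0, 0, 0, 0, 0, 0, 0, 0, 0, 0, 0, 0, 0, 0, 0, 0, 0, 0, 0, 0, 0, 0, 0, 0, 0, 0, 0, 0, 0, 0, 0, 0, 0, 0, 0, 0, 0, 0, 0, 0, 0, 0, 0, 0, 0, 0, 0, 0, 0, 0, 0, 0, 0, 0, 0, 0, 0, 0, 0, 0, 0, 0, 0, 0, 0, 0, 0, 0, 0, 0, 0, 0, 0, 0, 0, 0, 0, 0, 0, 0, 0, 0, 0, 0, 0, 0, 0, 0, 0, 0, 0, 0, 0, 0, 0, 0, 0, 0, 0, 0, 0, 0, 0, 0, 0, 0, 0, 0, 0, 0, 0, 0, 0, 0, 1],
  [0, 0, 0, 0, 0, 0, 0, 0, 0, 0, 0, 0, 0, 0, 0, 0, 0, 0, 0, 0, 0, 0, 0, 0, 0, 0, 0, 0, 0, 0, 0, 0, 0, 0, 1, 0, 0, 0, 0, 0, 0, 0, 0, 0, 0, 0, 0, 0, 0, 0, 0, 0, 0, 0, 0, 0, 0, 0, 0, 0, 0, 0, 0, 1],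
  [0, 0, 0, 0, 0, 0, 0, 0, 0, 0, 0, 0, 0, 0, 0, 0, 0, 0, 0, 0, 0, 0, 0, 0, 0, 0, 0, 0, 0, 0, 0, 0, 0, 0, 0, 0, 0, 0, 0, 0, 0, 0, 0, 0, 0, 0, 0, 0, 0, 0, 0, 0, 0, 0, 0, 0, 0, 0, 0, 0, 0, 0, 0, 0, 0, 0, 0, 0, 0, 0, 0, 0, 0, 0, 0, 0, 0, 0, 0, 0, 0, 0, 0, 0, 0, 0, 0, 0, 0, 0, 0, 0, 0, 0, 0, 0, 0, 1],
  [0, 0, 0, 0, 0, 0, 0, 0, 0, 0, 0, 0, 0, 0, 0, 0, 0, 0, 0, 0, 0, 0, 0, 0, 0, 0, 0, 0, 0, 0, 0, 0, 0, 0, 0, 0, 0, 0, 0, 0, 0, 0, 0, 0, 0, 0, 0, 0, 0, 0, 0, 0, 0, 0, 0, 0, 0, 0, 0, 0, 0, 0, 0, 0, 0, 0, 0, 0, 0, 0, 0, 0, 0, 0, 0, 0, 0, 0, 0, 0, 0, 0, 0, 0, 0, 0, 0, 0, 0, 0, 0, 0, 0, 0, 0, 0, 0, 0, 1],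
  [0, 0, 0, 0, 0, 0, 0, 0, 0, 0, 0, 0, 0, 0, 0, 0, 0, 0, 0, 0, 0, 0, 0, 0, 0, 0, 0, 0, 0, 0, 0, 0, 0, 0, 0, 0, 0, 0, 0, 0, 0, 0, 0, 0, 0, 1, 0, 0, 0, 0, 0, 0, 0, 0, 0, 0, 0, 0, 0, 1],
  [0, 0, 0, 0, 0, 0, 0, 0, 0, 0, 0, 0, 0, 0, 0, 0, 0, 0, 0, 0, 0, 0, 0, 0, 0, 0, 0, 0, 0, 0, 0, 0, 0, 0, 0, 0, 0, 0, 0, 0, 0, 0, 0, 0, 0, 0, 0, 0, 0, 0, 0, 0, 0, 0, 0, 0, 0, 0, 0, 0, 0, 0, 0, 0, 0, 0, 0, 0, 0, 0, 0, 0, 0, 0, 0, 0, 0, 0, 0, 0, 0, 0, 0, 0, 0, 0, 0, 0, 0, 0, 0, 0, 0, 0, 0, 0, 0, 0, 0, 0, 0, 1],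
  [0, 0, 0, 0, 0, 0, 0, 0, 0, 0, 0, 0, 0, 0, 0, 0, 0, 0, 0, 0, 0, 0, 0, 0, 0, 0, 0, 0, 0, 0, 0, 0, 0, 0, 0, 0, 0, 0, 0, 0, 0, 0, 0, 0, 0, 0, 0, 0, 0, 0, 0, 0, 0, 0, 0, 1, 0, 0, 0, 0, 0, 0, 0, 0, 0, 0, 0, 0, 0, 0, 0, 0, 0, 0, 0, 0, 0, 0, 0, 0, 0, 0, 0, 0, 0, 0, 0, 0, 0, 0, 0, 0, 0, 0, 0, 0, 0, 0, 0, 0, 0, 0, 0, 0, 0, 0, 0, 0, 0, 0, 0, 0, 0, 0, 1],
  [0, 0, 0, 0, 0, 0, 0, 0, 0, 0, 0, 0, 0, 0, 0, 0, 0, 0, 0, 0, 0, 0, 0, 0, 0, 0, 0, 0, 0, 0, 0, 0, 0, 0, 0, 0, 0, 0, 0, 0, 1],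
  [0, 0, 0, 0, 0, 0, 0, 0, 0, 0, 0, 0, 0, 0, 0, 0, 0, 0, 0, 0, 0, 0, 0, 0, 0, 0, 0, 0, 0, 0, 0, 0, 0, 0, 0, 0, 0, 0, 0, 0, 0, 0, 0, 0, 0, 0, 0, 0, 0, 0, 0, 0, 0, 0, 0, 0, 0, 0, 0, 0, 0, 0, 0, 1],
  [0, 0, 0, 0, 0, 0, 0, 0, 0, 0, 0, 0, 0, 0, 0, 0, 0, 0, 0, 0, 0, 0, 0, 0, 0, 0, 0, 0, 0, 0, 0, 0, 0, 0, 0, 0, 1, 0, 0, 0, 0, 0, 0, 0, 0, 0, 0, 0, 0, 0, 0, 0, 0, 0, 0, 0, 0, 0, 0, 0, 0, 0, 0, 0, 0, 0, 0, 0, 0, 0, 0, 0, 0, 0, 0, 0, 0, 0, 0, 0, 0, 0, 0, 0, 0, 0, 0, 0, 0, 0, 0, 0, 0, 0, 0, 0, 0, 0, 1, 0, 0, 0, 0, 0, 0, 1],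
  [0, 0, 0, 0, 0, 0, 0, 0, 0, 0, 0, 0, 0, 0, 0, 0, 0, 0, 0, 0, 0, 0, 0, 0, 0, 0, 0, 0, 0, 0, 0, 0, 0, 0, 0, 0, 1, 0, 0, 0, 0, 0, 0, 0, 0, 0, 0, 0, 0, 0, 0, 0, 0, 0, 0, 0, 0, 0, 0, 0, 0, 0, 0, 0, 0, 0, 0, 0, 0, 0, 0, 0, 0, 0, 0, 0, 0, 0, 0, 0, 0, 0, 0, 0, 0, 0, 0, 0, 0, 0, 0, 0, 0, 0, 0, 0, 0, 0, 1],
  [0, 0, 0, 0, 0, 0, 0, 0, 0, 0, 0, 0, 0, 0, 0, 0, 0, 0, 0, 0, 0, 0, 0, 0, 0, 0, 0, 0, 0, 0, 0, 0, 0, 0, 0, 0, 0, 0, 0, 0, 0, 0, 0, 0, 0, 0, 0, 0, 0, 0, 0, 0, 0, 0, 0, 0, 0, 0, 0, 0, 0, 0, 0, 0, 0, 0, 1],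
  [0, 0, 0, 0, 0, 0, 0, 0, 0, 0, 0, 0, 0, 0, 0, 0, 0, 0, 0, 0, 0, 0, 0, 0, 0, 0, 0, 0, 0, 0, 0, 0, 0, 0, 0, 0, 0, 0, 0, 0, 0, 0, 0, 0, 0, 1]]

def pairStepsUV : List Schur.StableCert.Step := [(3,101,true),(2,96,true),(1,92,true),(5,237,true),(4,236,true)]

def pairStepsVU : List Schur.StableCert.Step := [(2,45,true),(1,35,true),(0,26,true),(4,163,true),(3,162,true),(2,152,true),(5,299,true),(6,23,true),(5,220,true),(4,214,true),(3,210,true),(6,270,true),(5,264,true)]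

def pairStepsGU : List Schur.StableCert.Step := [(3,45,true),(2,41,true),(1,35,true),(0,31,true),(5,163,true),(4,162,true),(3,158,true),(2,152,true),(1,148,true),(5,289,true),(6,298,true),(7,299,true),(8,23,true),(7,220,true),(6,219,true),(5,216,true),(4,214,true),(3,210,true),(8,270,true),(7,269,true),(6,266,true),(5,264,true)]

def pairStepsUG : List Schur.StableCert.Step := [(3,186,true),(2,181,true),(5,269,true),(4,264,true),(6,242,true),(5,237,true),(4,236,true),(7,287,true)]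

def pairStepsVGV : List Schur.StableCert.Step := [(2,193,true),(1,183,true),(3,243,true),(2,12,true),(2,288,true),(3,22,true),(2,104,true),(1,94,true),(0,3,true),(1,239,true)]

/-- The certificate. -/
def cert : Schur.StableCert.Cert where
  rules := sylRules ++ fusRules ++ [(pairU ++ pairV, pairV ++ pairU)]
  n := 24
  sylRules := 300
  eqs := eqs0 ++ eqs1 ++ eqs2 ++ eqs3 ++ eqs4 ++ eqs5 ++ eqs6 ++ eqs7
  adj := adjs
  sel := sels
  extra := [392]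

end Cfsg.Agent.F4TwoMult
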