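import Cfsg.Agent.Lib.F4TwoMult.Stable
import Cfsg.Agent.Lib.Chev.BruhatNormalForm
import Cfsg.Agent.Lib.Schur.TransferPair
import Cfsg.Agent.Lib.RootBN.ConjRad

/-!
The commutator form of the cover of the unipotent group is invariant under all of F₄(2), so the transfer gives a
stem extension with kernel of order two.
-/

set_option autoImplicit false
set_option maxRecDepth 20000

namespace Cfsg.Agent.F4TwoMult

open Cfsg.Lie Cfsg.Agent.Chev
open Schur.StableCert (prodW)
open scoped commutatorElement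

theorem facts : BNSetup.Facts chevF4 WeylTab.tabsF4 WeylTab.simpsF4 := BNSetup.facts_chevF4

theorem ax : (BNSetup.data F4.good K2).Axioms := BNSetup.axioms F4.good facts

theorem diagonal_eq_bot : chevF4.diagonalSubgroup K2 = ⊥ := by
  rw [eq_bot_iff, ChevalleyDatum.diagonalSubgroup, Subgroup.closure_le]
  rintro g ⟨r, t, hr, ht, e⟩
  rcases k2_cases t with rfl | rfl
  · exact absurd rfl ht
  refine Units.ext ?_
  rw [e, F4.good.hMat_eq hr one_ne_zero, Units.val_one, ← hdiag_one chevF4]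
  exact hdiag_congr chevF4 fun s _ => _root_.one_zpow _

theorem eq_one_of_mem_H {h : GL chevF4.Idx K2} (hh : h ∈ (BNSetup.data F4.good K2).H) : h = 1 := by
  have : h ∈ chevF4.diagonalSubgroup K2 := hh
  rwa [diagonal_eq_bot, Subgroup.mem_bot] at this

theorem coe_n1 (i : Fin chevF4.rank) :
    ((n1 K2 i.val : G2el) : GL chevF4.Idx K2) = (BNSetup.data F4.good K2).nn i :=
  Units.ext ((F4.good.coe_nG _ _).trans (BNSetup.coe_ne' F4.good _ _).symm)

theorem nn_mul_self (i : Fin chevF4.rank) :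
    (BNSetup.data F4.good K2).nn i * (BNSetup.data F4.good K2).nn i = 1 :=
  eq_one_of_mem_H (ax.nn_sq i)

theorem X_le_negU {F : Type} [Field F] {D : ChevalleyDatum} (hG : Good D) {tabs simps : List ℕ}
    (hf : BNSetup.Facts D tabs simps) (r : Fin D.nroots) (hr : ¬ (BNSetup.data hG F).Pos r) :
    (BNSetup.data hG F).X r ≤ D.negUnipotent F := by
  intro y hy
  obtain ⟨t, rfl⟩ := (hG.mem_rootSubgroup_iff).1 hy
  exact Subgroup.subset_closure ⟨r.val, t, ((hf.2.2.1 _ r.2).2.2.1).2 (not_le.1 hr), hG.coe_xg _ _⟩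

theorem mem_Urad_of_conj (l : List (Fin chevF4.rank)) (i : Fin chevF4.rank)
    (hi : ¬ (BNSetup.data F4.good K2).Pos ((BNSetup.data F4.good K2).wl l ((BNSetup.data F4.good K2).simp i)))
    {x : GL chevF4.Idx K2} (hx : x ∈ (BNSetup.data F4.good K2).U)
    (hnx : (BNSetup.data F4.good K2).nw l * x * ((BNSetup.data F4.good K2).nw l)⁻¹ ∈
      (BNSetup.data F4.good K2).U) :
    x ∈ (BNSetup.data F4.good K2).Urad i :=
  RootBN.Data.mem_Urad_of_conj ax ((Subgroup.eq_bot_iff_forall _).2 fun _ => eq_one_of_mem_H)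
    (X_le_negU F4.good facts) ((congrArg (· ⊓ _) (BNSetup.data_B F4.good facts)).trans
      (BNSetup.borel_inf_V F4.good facts BNSetup.negTri_chevF4)) l i hi hx hnx

theorem mem_radU {s : ℕ} (hs : s < 4) {g : G2el}
    (hg : (g : GL chevF4.Idx K2) ∈ (BNSetup.data F4.good K2).Urad ⟨s, by rw [rank_eq]; exact hs⟩) :
    g ∈ radU s := by
  have hle : (BNSetup.data F4.good K2).Urad ⟨s, by rw [rank_eq]; exact hs⟩ ≤
      (radU s).map (chevF4.group K2).subtype := iSup₂_le fun r hr z hz => by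
    obtain ⟨t, rfl⟩ := (F4.good.mem_rootSubgroup_iff).1 hz
    obtain rfl | rfl := k2_cases t
    · rw [F4.good.xg_zero]; exact one_mem _
    have h24 : 24 ≤ r.val := hr.1
    have h48 : r.val < 48 := r.2
    refine ⟨gw K2 (r.val - 24), Subgroup.subset_closure ⟨r.val - 24, ⟨by omega, fun h => hr.2 (Fin.ext ?_)⟩, rfl⟩, ?_⟩
    · show r.val = chevF4.simple s
      rw [simple_eq s hs]; omega
    · rw [gw_of_lt K2 (show r.val - 24 < 24 by omega), show 24 + (r.val - 24) = r.val by omega]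
      rfl
  obtain ⟨y, hy, e⟩ := hle hg
  rwa [← Subtype.ext e]

theorem mem_posU_iff {g : G2el} : g ∈ posU K2 ↔ (g : GL chevF4.Idx K2) ∈ (BNSetup.data F4.good K2).U := by
  rw [posU, Subgroup.mem_subgroupOf, BNSetup.data_U F4.good facts]

/-- Conjugation by `g` preserves the commutator of lifts. -/
def InvAt (g : G2el) : Prop :=
  ∀ l m l' m' : LU, Commute (pLU l) (pLU m) → pLU l' = g * pLU l * g⁻¹ → pLU m' = g * pLU m * g⁻¹ →
    ⁅l', m'⁆ = ⁅l, m⁆

theorem commutator_mem_ker {l m : LU} (h : Commute (pLU l) (pLU m)) : ⁅l, m⁆ ∈ pLU.ker := by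
  rw [MonoidHom.mem_ker, map_commutatorElement]; exact commutatorElement_eq_one_iff_commute.2 h

theorem invAt_posU {g : G2el} (hg : g ∈ posU K2) : InvAt g := by
  rw [← range_pLU] at hg
  obtain ⟨c, rfl⟩ := hg
  intro l m l' m' hlm hl hm
  rw [Schur.commutator_congr (σ := pLU) ker_le_center (a := l') (a' := c * l * c⁻¹) (b := m') (b' := c * m * c⁻¹)
    (by rw [hl]; simp) (by rw [hm]; simp)]
  calc ⁅c * l * c⁻¹, c * m * c⁻¹⁆ = c * ⁅l, m⁆ * c⁻¹ := by simp only [commutatorElement_def]; group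
    _ = ⁅l, m⁆ := by
      rw [Subgroup.mem_center_iff.1 (ker_le_center (commutator_mem_ker hlm)) c, mul_inv_cancel_right]

/-- The element of the group given by a word of simple reflections. -/
noncomputable def nwG (l : List (Fin chevF4.rank)) : G2el := (l.map fun i => n1 K2 i.val).prod

theorem coe_nwG (l : List (Fin chevF4.rank)) :
    ((nwG l : G2el) : GL chevF4.Idx K2) = (BNSetup.data F4.good K2).nw l := by
  rw [nwG, Subgroup.val_list_prod, List.map_map, RootBN.Data.nw]
  exact congrArg List.prod (List.map_congr_left fun i _ => coe_n1 i)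

theorem nn_conj_mem_U (i : Fin chevF4.rank) {x : GL chevF4.Idx K2}
    (hx : x ∈ (BNSetup.data F4.good K2).Urad i) :
    (BNSetup.data F4.good K2).nn i * x * ((BNSetup.data F4.good K2).nn i)⁻¹ ∈ (BNSetup.data F4.good K2).U :=
  RootBN.Data.Urad_le_U i (RootBN.Data.nn_conj_Urad ax hx)

theorem invAt_nwG : ∀ l : List (Fin chevF4.rank), InvAt (nwG l) := by
  suffices key : ∀ k l, (BNSetup.data F4.good K2).inv ((BNSetup.data F4.good K2).wl l) = k → InvAt (nwG l) from
    fun l => key _ l rfl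
  intro k
  induction k with
  | zero =>
    intro l hk
    have h1 : nwG l = 1 := Subtype.ext (by
      rw [coe_nwG]
      refine eq_one_of_mem_H (RootBN.Data.mem_H_of_pos_preserving ax (RootBN.Data.nw_mem_N l)
        (RootBN.Data.acts_nw ax l) fun r hr => ?_)
      rw [RootBN.Data.inv_eq_zero ax l hk]
      simpa using hr)
    rw [h1]
    exact invAt_posU (one_mem _)
  | succ k ih =>
    intro l hk la m la' m' hlm hl hm
    have hne : (BNSetup.data F4.good K2).wl l ≠ 1 := fun he => by rw [he, RootBN.Data.inv_one] at hk; omega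
    obtain ⟨i, hi⟩ := RootBN.Data.exists_simp_neg ax l hne
    have hinv : (BNSetup.data F4.good K2).inv ((BNSetup.data F4.good K2).wl (l ++ [i])) = k := by
      have := RootBN.Data.inv_mul_refl_neg ax (σ := (BNSetup.data F4.good K2).wl l) (RootBN.Data.wl_opp ax l) hi
      rw [RootBN.Data.wl_append, RootBN.Data.wl_cons, RootBN.Data.wl_nil, mul_one]
      omega
    have hn : nwG l = nwG (l ++ [i]) * n1 K2 i.val := Subtype.ext (by
      rw [Subgroup.coe_mul, coe_nwG, coe_nwG, coe_n1, RootBN.Data.nw_append, RootBN.Data.nw_cons,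
        RootBN.Data.nw_nil, mul_one, mul_assoc, nn_mul_self, mul_one])
    have hmemU : ∀ c : LU, ((pLU c : G2el) : GL chevF4.Idx K2) ∈ (BNSetup.data F4.good K2).U := fun c =>
      mem_posU_iff.1 (range_pLU ▸ ⟨c, rfl⟩)
    have hrad : ∀ c c' : LU, pLU c' = nwG l * pLU c * (nwG l)⁻¹ →
        ((pLU c : G2el) : GL chevF4.Idx K2) ∈ (BNSetup.data F4.good K2).Urad i := fun c c' e => by
      refine mem_Urad_of_conj l i hi (hmemU c) ?_
      rw [← coe_nwG, ← Subgroup.coe_mul, ← Subgroup.coe_inv, ← Subgroup.coe_mul, ← e]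
      exact hmemU c'
    have hlift : ∀ c : LU, ((pLU c : G2el) : GL chevF4.Idx K2) ∈ (BNSetup.data F4.good K2).Urad i →
        ∃ d : LU, pLU d = n1 K2 i.val * pLU c * (n1 K2 i.val)⁻¹ := fun c hc => by
      have : n1 K2 i.val * pLU c * (n1 K2 i.val)⁻¹ ∈ pLU.range := by
        rw [range_pLU, mem_posU_iff, Subgroup.coe_mul, Subgroup.coe_mul, Subgroup.coe_inv, coe_n1]
        exact nn_conj_mem_U i hc
      exact this
    obtain ⟨d, hd⟩ := hlift la (hrad la la' hl)
    obtain ⟨e, he⟩ := hlift m (hrad m m' hm)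
    have hs : i.val < 4 := i.2
    have h1 := invariant_simple hs hlm (mem_radU hs (hrad la la' hl)) (mem_radU hs (hrad m m' hm)) hd he
    have hcomm : Commute (pLU d) (pLU e) := by
      rw [hd, he]; exact hlm.map (MulAut.conj (n1 K2 i.val)).toMonoidHom
    rw [ih (l ++ [i]) hinv d e la' m' hcomm
      (by rw [hl, hd, hn]; group) (by rw [hm, he, hn]; group), h1]

theorem invariant : Schur.TransferPair.Invariant pLU := by
  intro g la m la' m' hlm hl hm
  obtain ⟨b, hb, w, u, hu, e⟩ := RootBN.Data.exists_normal_form ax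
    (show (g : GL chevF4.Idx K2) ∈ (BNSetup.data F4.good K2).grp by rw [BNSetup.data_grp F4.good]; exact g.2)
  have hbU : b ∈ (BNSetup.data F4.good K2).U := by
    obtain ⟨u₀, hu₀, h, hh, rfl⟩ := (RootBN.Data.mem_B_iff ax).1 hb
    rwa [eq_one_of_mem_H hh, mul_one]
  have huU := RootBN.Data.Um_le_U _ hu
  have hUgrp : (BNSetup.data F4.good K2).U ≤ chevF4.group K2 := by
    rw [BNSetup.data_U F4.good facts]; exact ChevSylow.posUnipotent_le_group F4.good facts
  set b' : G2el := ⟨b, hUgrp hbU⟩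
  set u' : G2el := ⟨u, hUgrp huU⟩
  have hb' : b' ∈ posU K2 := mem_posU_iff.2 hbU
  have hu' : u' ∈ posU K2 := mem_posU_iff.2 huU
  have eg : g = b' * nwG w * u' := Subtype.ext (by rw [Subgroup.coe_mul, Subgroup.coe_mul, coe_nwG]; exact e)
  obtain ⟨cb, hcb⟩ : b' ∈ pLU.range := range_pLU ▸ hb'
  obtain ⟨cu, hcu⟩ : u' ∈ pLU.range := range_pLU ▸ hu'
  have hcomm : Commute (pLU (cu * la * cu⁻¹)) (pLU (cu * m * cu⁻¹)) := by
    simp only [map_mul, map_inv]; exact hlm.map (MulAut.conj (pLU cu)).toMonoidHom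
  have h1 : ⁅cb⁻¹ * la' * cb, cb⁻¹ * m' * cb⁆ = ⁅cu * la * cu⁻¹, cu * m * cu⁻¹⁆ :=
    invAt_nwG w _ _ _ _ hcomm (by simp only [map_mul, map_inv, hl, hcb, hcu, eg]; group)
      (by simp only [map_mul, map_inv, hm, hcb, hcu, eg]; group)
  have h2 : ⁅cu * la * cu⁻¹, cu * m * cu⁻¹⁆ = ⁅la, m⁆ :=
    invAt_posU hu' la m _ _ hlm (by simp [hcu]) (by simp [hcu])
  have hcomm' : Commute (pLU (cb⁻¹ * la' * cb)) (pLU (cb⁻¹ * m' * cb)) := by
    rw [show pLU (cb⁻¹ * la' * cb) = nwG w * pLU (cu * la * cu⁻¹) * (nwG w)⁻¹ by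
        simp only [map_mul, map_inv, hl, hcb, hcu, eg]; group,
      show pLU (cb⁻¹ * m' * cb) = nwG w * pLU (cu * m * cu⁻¹) * (nwG w)⁻¹ by
        simp only [map_mul, map_inv, hm, hcb, hcu, eg]; group]
    exact hcomm.map (MulAut.conj (nwG w)).toMonoidHom
  have h3 : ⁅la', m'⁆ = ⁅cb⁻¹ * la' * cb, cb⁻¹ * m' * cb⁆ :=
    invAt_posU hb' _ _ _ _ hcomm' (by simp [hcb, mul_assoc]) (by simp [hcb, mul_assoc])
  rw [h3, h1, h2]

/-- The words of the pair. -/
theorem pair_ok : (∀ i ∈ pairU ++ pairV, i < 24) ∧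
    ¬ (∀ q : Fin 16, wfun (pairU ++ pairV) q = wfun (pairV ++ pairU) q) := by decide +kernel

theorem exists_stem : ∃ (E : Type) (_ : Group E) (_ : Finite E) (σ : E →* G2el),
    Cfsg.IsStemExtension σ ∧ Nat.card σ.ker = 2 := by
  have hmem : ∀ w : List ℕ, (∀ i ∈ w, i < 24) → prodW gE w ∈ LU := fun w hw =>
    Schur.StableCert.prodW_mem LU gE w fun i hi => gE_mem ((hw i hi).trans (by norm_num))
  have hu24 : ∀ i ∈ pairU, i < 24 := fun i hi => pair_ok.1 i (List.mem_append_left _ hi)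
  have hv24 : ∀ i ∈ pairV, i < 24 := fun i hi => pair_ok.1 i (List.mem_append_right _ hi)
  let l : LU := ⟨_, hmem pairU hu24⟩
  let m : LU := ⟨_, hmem pairV hv24⟩
  have hx : ∀ w : List ℕ, (∀ i ∈ w, i < 24) → (prodW gE w).2 = prodW (gw K2) w := fun w hw => by
    rw [prodW_gE]; exact prodW_gx hw
  have hcomm : Commute (pLU l) (pLU m) := by
    show (prodW gE pairU).2 * (prodW gE pairV).2 = (prodW gE pairV).2 * (prodW gE pairU).2
    rw [hx _ hu24, hx _ hv24, ← Schur.StableCert.prodW_append, ← Schur.StableCert.prodW_append]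
    exact pairRule_rel K2
  refine Schur.TransferPair.exists_stem_of_invariant pLU ker_le_center card_ker_pLU ?_ invariant l m hcomm ?_ ?_
  · rw [range_pLU, Nat.odd_iff]
    exact Nat.two_dvd_ne_zero.1 index_posU
  · refine (IsPGroup.of_card (p := 2) (n := 24) (card_posU (F := K2) (ZMod.card 2))).to_le ?_
    rw [Subgroup.closure_le]
    rintro _ (rfl | rfl) <;> exact range_pLU ▸ ⟨_, rfl⟩
  · intro h
    rw [commutatorElement_eq_one_iff_mul_comm] at h
    have h2 : prodW pm (pairU ++ pairV) = prodW pm (pairV ++ pairU) := by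
      have := congrArg (fun x : LU => x.1.1) h
      simp only [l, m, Subgroup.coe_mul, Prod.fst_mul, prodW_gE, ← Schur.StableCert.prodW_append] at this
      exact this
    refine pair_ok.2 fun q => ?_
    rw [← prodW_pm (fun i hi => (pair_ok.1 i hi).trans (by norm_num)), h2, prodW_pm fun i hi =>
      (pair_ok.1 i (by simp only [List.mem_append] at hi ⊢; tauto)).trans (by norm_num)]

end Cfsg.Agent.F4TwoMult
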