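import Cfsg.Agent.Lib.F4TwoMult.Rels
import Cfsg.Agent.Lib.Chev.Steinberg.SmallMultiplier
import Cfsg.Agent.Lib.Schur.PerfectCover
import Cfsg.Agent.S2395

/-!
A stem extension of F₄(2) whose kernel has odd exponent is injective: the involutions over the root elements satisfy
Steinberg's relations.
-/

set_option autoImplicit false
set_option maxRecDepth 20000

namespace Cfsg.Agent.F4TwoMult

open Cfsg.Lie Cfsg.Agent.Chev
open Schur.StableCert (prodW)
open scoped commutatorElement

universe u v

/-- Two roots whose elements commute. -/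
noncomputable def commB (a b : ℕ) : Bool := a == b || (!(b == F4.cert.ng a) && oddTerms a b == [])

/-- The elements of a pair of roots and of their odd terms pairwise commute, apart from the pair. -/
noncomputable def pairOK (r s : ℕ) : Bool :=
  r == s || s == F4.cert.ng r ||
    ((F4.cert.comm r s).all fun x => decide (0 < x.2.2.1) && decide (0 < x.2.2.2)) &&
      (r :: oddTerms r s).all fun a => (r :: oddTerms r s).all fun b => commB a b

theorem pairs_ok : (List.range 48).all (fun r => (List.range 48).all fun s => pairOK r s) = true := by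
  decide +kernel

theorem oddTerms_lt {r s : ℕ} (hr : r < 48) (hs : s < 48) : ∀ k ∈ oddTerms r s, k < 48 := by
  intro k hk
  simp only [oddTerms, List.mem_map, List.mem_filter] at hk
  obtain ⟨x, ⟨hx, -⟩, rfl⟩ := hk
  exact F4.valid.comm_lt (show r < chevF4.nroots from hr) (show s < chevF4.nroots from hs) hx

variable {F : Type u} [Field F] [CharP F 2]

theorem commute_x1 {a b : ℕ} (ha : a < 48) (hb : b < 48) (h : commB a b = true) :
    Commute (x1 F a) (x1 F b) := by
  simp only [commB, Bool.or_eq_true, Bool.and_eq_true, beq_iff_eq, Bool.not_eq_true', beq_eq_false_iff_ne] at h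
  by_cases hab : a = b
  · rw [hab]
  obtain ⟨h1, h2⟩ := h.resolve_left hab
  have := comm_one F ha hb (Ne.symm hab) h1
  rw [h2] at this
  simp only [prodW, List.map_nil, List.prod_nil, mul_one] at this
  exact this.symm

omit [CharP F 2] in
theorem commutator_eq_top [Fintype F] : commutator (chevF4.SteinbergCover F) = ⊤ :=
  S2395.result _ (by simp) fun h => by
    simp only [List.mem_cons, List.not_mem_nil, or_false] at h
    exfalso
    rcases h with h | h <;> exact absurd (congrArg ChevalleyDatum.rank h) (by decide)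

omit [CharP F 2] in
theorem exists_cover_equiv [Fintype F] (hq : Fintype.card F = 2) :
    ∃ e : chevF4.SteinbergCover F ≃* ↥(chevF4.group F), ∀ r < chevF4.nroots, ∀ t : F,
      ((e (chevF4.scGen F r t) : ↥(chevF4.group F)) : GL chevF4.Idx F) = xg chevF4 F r t := by
  classical
  have hf := BNSetup.facts_chevF4
  have hD : chevF4 ∈ [chevG2, chevB2, chevD4, chevF4, chevE6, chevE7, chevE8] := by simp
  have hst := stData_of_mem _ hD
  obtain ⟨θ, hs, hθ⟩ := (good_of_mem hD).exists_cover_hom (F := F)
  let S := coverModel ((chevF4.group F).subtype.comp θ) hθ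
  have hgen := closure_scGen chevF4 F
  have hm := S.mulRel_of_finite (good_of_mem hD) hf hst (S.ker_le_center (good_of_mem hD) hf hst hgen)
  have hbot : (BNSetup.torusHom F chevF4).ker = ⊥ :=
    Subgroup.eq_bot_of_card_eq _
      (by rw [BNSetup.card_ker_torusHom (good_of_mem hD) _ BNSetup.kerCertF4_valid]; simp [hq])
  have hk : S.θ.ker = ⊥ := by rw [S.ker_eq_map (good_of_mem hD) hf hst hm hgen, hbot, Subgroup.map_bot]
  have hinj : Function.Injective θ := by
    rw [← MonoidHom.ker_eq_bot_iff, ← hk]
    show θ.ker = ((chevF4.group F).subtype.comp θ).ker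
    rw [MonoidHom.ker_comp_of_injective _ _ (Subgroup.subtype_injective _)]
  exact ⟨MulEquiv.ofBijective θ ⟨hinj, hs⟩, hθ⟩

omit [CharP F 2] in
theorem charP_two [Fintype F] (hq : Fintype.card F = 2) : CharP F 2 := by
  obtain ⟨p, hp⟩ := CharP.exists F
  obtain ⟨n, hpr, hn⟩ := FiniteField.card F p
  rw [hq] at hn
  obtain rfl : p = 2 := (Nat.prime_dvd_prime_iff_eq hpr Nat.prime_two).1 (hn ▸ dvd_pow_self p n.pos.ne')
  exact hp

omit [CharP F 2] in
theorem eq_zero_or_one [Fintype F] (hq : Fintype.card F = 2) (t : F) : t = 0 ∨ t = 1 := by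
  classical
  have h : ({0, 1} : Finset F) = Finset.univ :=
    Finset.eq_univ_of_card _ (by rw [Finset.card_pair zero_ne_one, hq])
  have := Finset.mem_univ t
  rw [← h] at this
  simpa using this

theorem ker_eq_bot_of_odd [Fintype F] (hq : Fintype.card F = 2) {Γ : Type v} [Group Γ] [Finite Γ]
    (σ : Γ →* ↥(chevF4.group F)) (hσ : Cfsg.IsStemExtension σ) {n : ℕ} (hodd : Odd n)
    (hexp : ∀ z ∈ σ.ker, z ^ n = 1) : σ.ker = ⊥ := by
  classical
  obtain ⟨hs, hz, hc⟩ := hσ
  obtain ⟨m, rfl⟩ := hodd
  -- involutions above involutions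
  have huniq : ∀ {a b : Γ}, a * a = 1 → b * b = 1 → σ a = σ b → a = b := by
    intro a b ha hb e
    have hk : a * b ∈ σ.ker := by rw [MonoidHom.mem_ker, map_mul, ← e, ← map_mul, ha, map_one]
    have hab : a * b = b * a := by
      have := Subgroup.mem_center_iff.1 (hz hk) a
      rw [← mul_assoc, ha, one_mul] at this
      calc a * b = a * (a * b * a) := by rw [← this]
        _ = b * a := by rw [← mul_assoc, ← mul_assoc, ha, one_mul]
    have h2 : (a * b) ^ 2 = 1 := by
      rw [pow_two]
      nth_rw 2 [hab]
      rw [mul_assoc, ← mul_assoc b b a, hb, one_mul, ha]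
    have h1 : a * b = 1 := by
      have := hexp _ hk
      rw [pow_succ, pow_mul, h2, one_pow, one_mul] at this
      exact this
    calc a = a * (b * b) := by rw [hb, mul_one]
      _ = (a * b) * b := by group
      _ = b := by rw [h1, one_mul]
  have hlift : ∀ g : ↥(chevF4.group F), g * g = 1 → ∃ a : Γ, a * a = 1 ∧ σ a = g := by
    intro g hg
    obtain ⟨l, rfl⟩ := hs g
    have hk : l * l ∈ σ.ker := by rw [MonoidHom.mem_ker, map_mul, hg]
    have hc' := Subgroup.mem_center_iff.1 (hz (inv_mem (pow_mem hk (m + 1)))) l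
    refine ⟨l * ((l * l) ^ (m + 1))⁻¹, ?_, ?_⟩
    · calc l * ((l * l) ^ (m + 1))⁻¹ * (l * ((l * l) ^ (m + 1))⁻¹)
          = l * (((l * l) ^ (m + 1))⁻¹ * l) * ((l * l) ^ (m + 1))⁻¹ := by group
        _ = (l * l) * ((l * l) ^ (m + 1) * (l * l) ^ (m + 1))⁻¹ := by rw [← hc']; group
        _ = 1 := by
          rw [← pow_add, show m + 1 + (m + 1) = 2 * m + 1 + 1 by omega, pow_succ _ (2 * m + 1), hexp _ hk, one_mul,
            mul_inv_cancel]
    · rw [map_mul, MonoidHom.mem_ker.1 (inv_mem (pow_mem hk (m + 1))), mul_one]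
  choose L hL using fun r : ℕ => hlift (x1 F r) (x1_mul_self F r)
  -- relations
  have hcomm : ∀ {a b : ℕ}, a < 48 → b < 48 → commB a b = true → Commute (L a) (L b) := by
    intro a b ha hb h
    have e : L b * L a * L b = L a := huniq
      (by
        calc L b * L a * L b * (L b * L a * L b) = L b * L a * (L b * L b) * L a * L b := by group
          _ = 1 := by rw [(hL b).1, mul_one, mul_assoc (L b) (L a) (L a), (hL a).1, mul_one, (hL b).1])
      (hL a).1 (by
        rw [map_mul, map_mul, (hL a).2, (hL b).2, ← (commute_x1 ha hb h).eq, mul_assoc, x1_mul_self, mul_one])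
    calc L a * L b = L b * L a * L b * L b := by rw [e]
      _ = L b * L a := by rw [mul_assoc (L b * L a), (hL b).1, mul_one]
  have hsq : ∀ l : List ℕ, (∀ a ∈ l, a < 48) → (∀ a ∈ l, ∀ b ∈ l, commB a b = true) →
      prodW L l * prodW L l = 1 ∧ ∀ a < 48, (∀ b ∈ l, commB a b = true) → Commute (L a) (prodW L l) := by
    intro l
    induction l with
    | nil => intro _ _; exact ⟨by simp [prodW], fun a _ _ => Commute.one_right _⟩
    | cons c l ih =>
      intro hl hp
      obtain ⟨h1, h2⟩ := ih (fun a ha => hl a (List.mem_cons_of_mem _ ha))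
        fun a ha b hb => hp a (List.mem_cons_of_mem _ ha) b (List.mem_cons_of_mem _ hb)
      have hc' := h2 c (hl c List.mem_cons_self) fun b hb => hp c List.mem_cons_self b (List.mem_cons_of_mem _ hb)
      refine ⟨?_, fun a ha hab => ?_⟩
      · rw [Schur.StableCert.prodW_cons, hc'.symm.mul_mul_mul_comm, (hL c).1, h1, one_mul]
      · rw [Schur.StableCert.prodW_cons]
        exact (hcomm ha (hl c List.mem_cons_self) (hab c List.mem_cons_self)).mul_right
          (h2 a ha fun b hb => hab b (List.mem_cons_of_mem _ hb))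
  have hR2 : ∀ r s, r < 48 → s < 48 → s ≠ r → s ≠ F4.cert.ng r →
      L s * L r * L s * L r = prodW L (oddTerms r s) := by
    intro r s hr hs h1 h2
    have h := List.all_eq_true.1 (List.all_eq_true.1 pairs_ok r (List.mem_range.2 hr)) s (List.mem_range.2 hs)
    simp only [pairOK, Bool.or_eq_true, Bool.and_eq_true, beq_iff_eq, List.all_eq_true] at h
    obtain ⟨-, hp⟩ := h.resolve_left (fun h => h.elim (fun h => h1 h.symm) h2)
    have hlt : ∀ a ∈ r :: oddTerms r s, a < 48 := List.forall_mem_cons.2 ⟨hr, oddTerms_lt hr hs⟩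
    obtain ⟨hq1, -⟩ := hsq _ hlt hp
    have e : L s * L r * L s = prodW L (r :: oddTerms r s) := huniq
      (by
        calc L s * L r * L s * (L s * L r * L s) = L s * L r * (L s * L s) * L r * L s := by group
          _ = 1 := by rw [(hL s).1, mul_one, mul_assoc (L s) (L r) (L r), (hL r).1, mul_one, (hL s).1]) hq1 (by
        rw [map_mul, map_mul, (hL r).2, (hL s).2, Schur.StableCert.map_prodW,
          Schur.StableCert.prodW_cons, show (fun i => σ (L i)) = x1 F from funext fun i => (hL i).2,
          comm_one F hr hs h1 h2]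
        have := congrArg (fun y => σ y) (hsq _ (fun a ha => hlt a (List.mem_cons_of_mem _ ha))
          fun a ha b hb => hp a (List.mem_cons_of_mem _ ha) b (List.mem_cons_of_mem _ hb)).1
        simp only [map_mul, map_one, Schur.StableCert.map_prodW,
          show (fun i => σ (L i)) = x1 F from funext fun i => (hL i).2] at this
        -- the terms square to one, so the formula can be turned round
        have e2 := comm_one F hr hs h1 h2
        have hinv : x1 F r * x1 F s = x1 F s * x1 F r * prodW (x1 F) (oddTerms r s) := by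
          conv_rhs => rw [e2, mul_assoc _ _ (prodW (x1 F) (oddTerms r s)), this, mul_one]
        calc x1 F r * x1 F s * prodW (x1 F) (oddTerms r s) * x1 F s
            = x1 F s * x1 F r * x1 F s := by rw [e2]
          _ = x1 F r * prodW (x1 F) (oddTerms r s) := by
            rw [mul_assoc, hinv, ← mul_assoc, ← mul_assoc, x1_mul_self, one_mul]
          _ = σ (L r) * prodW (x1 F) (oddTerms r s) := by rw [(hL r).2])
    rw [e, Schur.StableCert.prodW_cons]
    have hc' := (hsq _ (fun a ha => hlt a (List.mem_cons_of_mem _ ha))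
      fun a ha b hb => hp a (List.mem_cons_of_mem _ ha) b (List.mem_cons_of_mem _ hb)).2 r hr
        fun b hb => hp r List.mem_cons_self b (List.mem_cons_of_mem _ hb)
    rw [hc'.eq, mul_assoc, (hL r).1, mul_one]
  -- the section
  let f : Fin chevF4.nroots × F → Γ := fun p => if p.2 = 0 then 1 else L p.1.val
  have hX : ∀ r < 48, ∀ t : F, FreeGroup.lift f (chevF4.stX r t) = if t = 0 then 1 else L r := by
    intro r hr t
    rw [ChevalleyDatum.stX, dif_pos (show r < chevF4.nroots from hr), FreeGroup.lift_apply_of]
  have ht := eq_zero_or_one hq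
  have hrels : ∀ g ∈ chevF4.steinbergRelsAB F, FreeGroup.lift f g = 1 := by
    intro g hg
    rcases hg with ⟨r, t₁, t₂, hr, rfl⟩ | ⟨r, s, t, u, hr, hs', h1, h2, rfl⟩
    · change r < 48 at hr
      simp only [map_mul, map_inv, hX r hr]
      rcases ht t₁ with rfl | rfl <;> rcases ht t₂ with rfl | rfl <;>
        simp [(hL r).1, CharTwo.add_self_eq_zero]
    · change r < 48 at hr
      change s < 48 at hs'
      have h2' : s ≠ F4.cert.ng r := by rwa [← F4.valid.ng_eq (show r < chevF4.nroots from hr)]
      have hall := List.all_eq_true.1 (List.all_eq_true.1 pairs_ok r (List.mem_range.2 hr)) s (List.mem_range.2 hs')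
      simp only [pairOK, Bool.or_eq_true, Bool.and_eq_true, beq_iff_eq, List.all_eq_true, decide_eq_true_eq] at hall
      obtain ⟨hexps, -⟩ := hall.resolve_left (fun h => h.elim (fun h => h1 h.symm) h2')
      have hlt : ∀ x ∈ F4.cert.comm r s, x.1 < 48 := fun x hx =>
        F4.valid.comm_lt (show r < chevF4.nroots from hr) (show s < chevF4.nroots from hs') hx
      have hW : FreeGroup.lift f (chevF4.stWord (chevF4.commWord F r s t u)) =
          if t = 0 ∨ u = 0 then 1 else prodW L (oddTerms r s) := by
        rw [ChevalleyDatum.stWord, ChevalleyDatum.commWord,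
          F4.valid.commTerms_eq (show r < chevF4.nroots from hr) (show s < chevF4.nroots from hs'), oddTerms,
          map_list_prod, List.map_map, List.map_map]
        have hstep : ∀ l : List (ℕ × ℤ × ℕ × ℕ), (∀ x ∈ l, x.1 < 48 ∧ 0 < x.2.2.1 ∧ 0 < x.2.2.2) →
            (l.map fun x => FreeGroup.lift f (chevF4.stX x.1 ((x.2.1 : F) * (-t) ^ x.2.2.1 * u ^ x.2.2.2))).prod =
              if t = 0 ∨ u = 0 then 1 else prodW L ((l.filter fun x => !(x.2.1 % 2 == 0)).map Prod.fst) := by
          intro l
          induction l with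
          | nil => intro _; simp [prodW]
          | cons x l ih =>
            intro hl
            obtain ⟨hx1, hi, hj⟩ := hl x List.mem_cons_self
            rw [List.map_cons, List.prod_cons, ih fun y hy => hl y (List.mem_cons_of_mem _ hy), hX _ hx1]
            rcases ht t with rfl | rfl <;> rcases ht u with rfl | rfl <;>
              try simp [zero_pow hi.ne', zero_pow hj.ne', neg_zero]
            simp only [intCast_two F]
            by_cases h : (x.2.1 % 2 == 0) = true
            · simp [h]
            · simp only [Bool.not_eq_true] at h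
              simp [h, prodW]
        rw [← List.map_map] at *
        simpa only [List.map_map, Function.comp_def] using
          hstep _ fun x hx => ⟨hlt x hx, (hexps x hx).1, (hexps x hx).2⟩
      simp only [map_mul, map_inv, hX r hr, hX s hs', hW]
      rcases ht t with rfl | rfl <;> rcases ht u with rfl | rfl <;>
        simp only [one_ne_zero, or_self, or_false, false_or, if_true, if_false, inv_one, one_mul, mul_one]
      · simp [inv_mul_cancel]
      · simp [inv_mul_cancel]
      · rw [inv_eq_of_mul_eq_one_left (hL r).1, inv_eq_of_mul_eq_one_left (hL s).1, hR2 r s hr hs' h1 h2',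
          mul_inv_cancel]
  obtain ⟨e, he⟩ := exists_cover_equiv (F := F) hq
  let τ : chevF4.SteinbergCover F →* Γ := PresentedGroup.toGroup hrels
  have hτ : ∀ x, σ (τ x) = e x := by
    intro x
    refine DFunLike.congr_fun (MonoidHom.eq_of_eqOn_dense (closure_scGen chevF4 F) ?_ :
      σ.comp τ = e.toMonoidHom) x
    rintro _ ⟨r, hr, t, rfl⟩
    show σ (FreeGroup.lift f (chevF4.stX r t)) = _
    rw [hX r hr]
    refine Subtype.ext ?_
    rw [MulEquiv.coe_toMonoidHom, he r hr t]
    rcases ht t with rfl | rfl
    · simp [F4.good.xg_zero]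
    · rw [if_neg one_ne_zero, (hL r).2]; rfl
  have hle : commutator Γ ≤ τ.range := by
    rw [commutator_def, Subgroup.commutator_le]
    rintro a - b -
    exact ⟨⁅e.symm (σ a), e.symm (σ b)⁆, (map_commutatorElement τ _ _).trans
      (Schur.commutator_congr hz ((hτ _).trans (e.apply_symm_apply _)) ((hτ _).trans (e.apply_symm_apply _)))⟩
  rw [eq_bot_iff]
  intro k hk
  obtain ⟨x, rfl⟩ := hle (hc hk)
  rw [MonoidHom.mem_ker, hτ, ← map_one e, e.injective.eq_iff] at hk
  rw [hk, map_one]
  exact Subgroup.one_mem _

end Cfsg.Agent.F4TwoMult
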