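import Cfsg.Agent.Lib.F4TwoMult.Global
import Cfsg.Agent.Lib.F4TwoMult.OddPart
import Cfsg.Agent.Lib.F4TwoMult.Checks
import Cfsg.Agent.Lib.Schur.Exponent
import Cfsg.Agent.Lib.Schur.SmallSylow
import Cfsg.Agent.Lib.G2Four.Transport

/-!
The Schur multiplier of F₄(2) has order two.
-/

set_option autoImplicit false
set_option maxRecDepth 20000

namespace Cfsg.Agent.F4TwoMult

open Cfsg.Lie Cfsg.Agent.Chev
open Schur.StableCert (prodW prodW_append map_prodW)
open scoped commutatorElement

universe u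

variable {F : Type u} [Field F] [Fintype F]

theorem cert_rel [CharP F 2] : ∀ r ∈ cert.rules, prodW (gw F) r.1 = prodW (gw F) r.2 := by
  intro r hr
  simp only [cert, List.mem_append, List.mem_singleton] at hr
  rcases hr with (hr | hr) | rfl
  exacts [sylRules_rel F r hr, fusRules_rel F r hr, pairRule_rel F]

theorem cert_extra : ∀ k ∈ cert.extra, cert.rules.getD k ([], []) = (pairU ++ pairV, pairV ++ pairU) := by
  decide +kernel

/-- The kernel of a stem extension lies in a subgroup of order at most two. -/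
theorem exists_ker_le [CharP F 2] (hq : Fintype.card F = 2) {Γ : Type u} [Group Γ] [Finite Γ]
    (π : Γ →* ↥(chevF4.group F)) (hπ : Cfsg.IsStemExtension π) :
    ∃ z ∈ π.ker, π.ker ≤ Subgroup.zpowers z ∧ z * z = 1 := by
  classical
  let l : ℕ → Γ := fun i => Function.surjInv hπ.1 (gw F i)
  have hl : ∀ w, π (prodW l w) = prodW (gw F) w := fun w => by
    rw [map_prodW]; exact Schur.StableCert.prodW_congr w fun i _ => Function.surjInv_eq hπ.1 _
  let u := prodW l pairU
  let v := prodW l pairV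
  let g := prodW l pairG
  have hu : π u = prodW (gw F) pairU := hl _
  have hv : π v = prodW (gw F) pairV := hl _
  have hzk : ⁅u, v⁆ ∈ π.ker := by
    rw [MonoidHom.mem_ker, map_commutatorElement, commutatorElement_eq_one_iff_mul_comm, hu, hv, ← prodW_append,
      ← prodW_append]
    exact pairRule_rel F
  refine ⟨⁅u, v⁆, hzk, ?_, ?_⟩
  swap
  · obtain ⟨h1, h2⟩ := pairG_rel F
    rw [prodW_append, prodW_append] at h1
    rw [prodW_append, prodW_append] at h2
    have e1 : π (g * u * g⁻¹) = π u := by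
      rw [map_mul, map_mul, map_inv, hu, hl pairG, h1, mul_inv_cancel_right]
    have e2 : π (g * v * g⁻¹) = π v⁻¹ := by
      rw [map_mul, map_mul, map_inv, map_inv, hv, hl pairG]
      calc prodW (gw F) pairG * prodW (gw F) pairV * (prodW (gw F) pairG)⁻¹
          = (prodW (gw F) pairV)⁻¹ *
              (prodW (gw F) pairV * prodW (gw F) pairG * prodW (gw F) pairV) * (prodW (gw F) pairG)⁻¹ := by group
        _ = _ := by rw [h2]; group
    have e3 := Schur.commutator_congr hπ.2.1 e1 e2
    rw [show ⁅g * u * g⁻¹, g * v * g⁻¹⁆ = g * ⁅u, v⁆ * g⁻¹ by simp only [commutatorElement_def]; group,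
      Subgroup.mem_center_iff.1 (hπ.2.1 hzk) g, mul_inv_cancel_right] at e3
    have hc := Subgroup.mem_center_iff.1 (hπ.2.1 (inv_mem hzk)) v⁻¹
    have e4 : ⁅u, v⁻¹⁆ = ⁅u, v⁆⁻¹ := by
      calc ⁅u, v⁻¹⁆ = v⁻¹ * ⁅u, v⁆⁻¹ * v := by simp only [commutatorElement_def]; group
        _ = ⁅u, v⁆⁻¹ := by rw [hc]; group
    rw [e4] at e3
    exact mul_eq_one_iff_eq_inv.2 e3
  · refine Schur.ker_le_of_exponent π hπ (Subgroup.zpowers ⁅u, v⁆) (Subgroup.zpowers_le.2 hzk)
      fun p hp M _ hM hDM hst hexp => ?_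
    rcases hp.eq_two_or_odd' with rfl | hodd
    swap
    · exact ker_eq_bot_of_odd hq _ hst hodd hexp
    refine Schur.StableCert.ker_eq_bot_of_cert (C := cert) (g := gw F) _ hst hexp cert_check cert_rel ?_ ?_ ?_
    · intro k hk ls hls
      rw [cert_extra k hk, prodW_append, prodW_append]
      have hmk : (QuotientGroup.mk' M) ⁅u, v⁆ = 1 :=
        (QuotientGroup.eq_one_iff _).2 (hDM (Subgroup.mem_zpowers _))
      have hlsw : ∀ w, QuotientGroup.lift M π hM (prodW ls w) = prodW (gw F) w := fun w => by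
        rw [map_prodW]; exact Schur.StableCert.prodW_congr w fun i _ => hls i
      have e := Schur.commutator_congr hst.2.1 (a := prodW ls pairU) (b := prodW ls pairV)
        (a' := QuotientGroup.mk' M u) (b' := QuotientGroup.mk' M v)
        ((hlsw _).trans hu.symm) ((hlsw _).trans hv.symm)
      rw [← map_commutatorElement, hmk, commutatorElement_eq_one_iff_mul_comm] at e
      exact e
    · show Nat.card (Subgroup.closure (gw F '' Set.Iio 24)) = 2 ^ 24
      rw [closure_gw hq, card_posU hq]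
    · show ¬ 2 ∣ (Subgroup.closure (gw F '' Set.Iio 24)).index
      rw [closure_gw hq]
      exact index_posU

/-- The multiplier of F₄(2). -/
theorem multiplier_two (hq : Fintype.card F = 2) :
    Cfsg.HasCyclicSchurMultiplier ↥(chevF4.group F) 2 := by
  classical
  have := charP_two hq
  refine ⟨?_, fun Γ _ _ π hπ => ?_⟩
  swap
  · obtain ⟨z, hz, hle, hzz⟩ := exists_ker_le hq π hπ
    exact Schur.exists_surjective_zmod_of_le_zpowers π.ker 2 (c := z) hle (by rwa [pow_two])
  obtain ⟨Γ, hg, hfin, σ, ⟨hs, hc, hd⟩, hcard⟩ := exists_stem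
  let eF : ↥(chevF4.group K2) ≃* ↥(chevF4.group F) :=
    G2Four.groupEquiv (FiniteField.ringEquivOfCardEq (by rw [ZMod.card, hq]))
  let d : ULift.{u} Γ ≃* Γ := MulEquiv.ulift
  refine ⟨ULift.{u} Γ, inferInstance, inferInstance, eF.toMonoidHom.comp (σ.comp d.toMonoidHom), ?_⟩
  have hker : (eF.toMonoidHom.comp (σ.comp d.toMonoidHom)).ker = σ.ker.map d.symm.toMonoidHom := by
    rw [MonoidHom.ker_comp_of_injective _ _ eF.injective]
    ext x
    refine ⟨fun hx => ⟨d x, hx, d.symm_apply_apply x⟩, ?_⟩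
    rintro ⟨z, hz, rfl⟩
    show σ (d (d.symm z)) = 1
    rw [d.apply_symm_apply]
    exact hz
  refine ⟨⟨eF.surjective.comp (hs.comp d.surjective), ?_, ?_⟩, ?_⟩
  · rintro x hx
    rw [hker] at hx
    obtain ⟨z, hz, rfl⟩ := hx
    refine Subgroup.mem_center_iff.2 fun y => d.injective ?_
    rw [map_mul, map_mul, MulEquiv.coe_toMonoidHom, MulEquiv.apply_symm_apply]
    exact Subgroup.mem_center_iff.1 (hc hz) _
  · rw [hker]
    refine (Subgroup.map_mono hd).trans ?_
    rw [_root_.commutator_def, _root_.commutator_def, Subgroup.map_commutator]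
    exact Subgroup.commutator_mono le_top le_top
  · rw [hker]
    have hc2 : Nat.card (σ.ker.map d.symm.toMonoidHom) = 2 := by
      rw [Subgroup.card_map_of_injective d.symm.injective, hcard]
    have : Fact (Nat.Prime 2) := ⟨Nat.prime_two⟩
    exact ⟨mulEquivOfPrimeCardEq hc2 (by simp)⟩

end Cfsg.Agent.F4TwoMult
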