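import Cfsg.Agent.Lib.Chev.CharTwo
import Cfsg.Agent.Lib.Chev.CheckF4
import Cfsg.Agent.Lib.Chev.Sylow
import Cfsg.Agent.Lib.Chev.BNFacts
import Cfsg.Agent.Lib.F4TwoMult.Data

/-!
The root elements and simple reflections of F₄(2) satisfy the rules of the generated data.
-/

set_option autoImplicit false
set_option maxRecDepth 20000

namespace Cfsg.Agent.F4TwoMult

open Cfsg.Lie Cfsg.Agent.Chev
open Schur.StableCert (prodW)

universe u

/-- The roots of the odd terms of the commutator formula. -/
noncomputable def oddTerms (r s : ℕ) : List ℕ :=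
  ((F4.cert.comm r s).filter fun x => !(x.2.1 % 2 == 0)).map Prod.fst

/-- A rule of the unipotent group agrees with the commutator formula. -/
noncomputable def sylOK : List ℕ × List ℕ → Bool
  | ([a, b], []) => a == b && decide (a < 24)
  | ([a, b], b' :: a' :: w) => a' == a && b' == b && decide (b < a) && decide (a < 24) &&
      !(24 + a == F4.cert.ng (24 + b)) && oddTerms (24 + b) (24 + a) == w.map (24 + ·)
  | _ => false

/-- A fusion rule agrees with the reflection. -/
noncomputable def fusOK : List ℕ × List ℕ → Bool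
  | ([m, i], [i', m']) => m' == m && decide (24 ≤ m) && decide (m < 28) && decide (i < 24) && decide (i' < 24) &&
      F4.cert.w (m - 24) (24 + i) == 24 + i'
  | _ => false

theorem sylRules_ok : sylRules.all sylOK = true := by decide +kernel

theorem fusRules_ok : fusRules.all fusOK = true := by decide +kernel

theorem nroots_eq : chevF4.nroots = 48 := rfl

theorem rank_eq : chevF4.rank = 4 := rfl

variable (F : Type u) [Field F]

/-- The root element with parameter one. -/
noncomputable def x1 (r : ℕ) : ↥(chevF4.group F) := ⟨xg chevF4 F r 1, F4.good.xg_mem_group r 1⟩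

/-- The simple reflection. -/
noncomputable def n1 (s : ℕ) : ↥(chevF4.group F) :=
  ⟨nG chevF4 F (chevF4.simple s) 1, F4.good.nG_mem_group _ 1⟩

/-- The generators of the certificate. -/
noncomputable def gw (i : ℕ) : ↥(chevF4.group F) := if i < 24 then x1 F (24 + i) else n1 F (i - 24)

theorem gw_of_lt {i : ℕ} (h : i < 24) : gw F i = x1 F (24 + i) := if_pos h

theorem gw_of_le {i : ℕ} (h : 24 ≤ i) : gw F i = n1 F (i - 24) := if_neg (Nat.not_lt.2 h)

variable [CharP F 2]

theorem intCast_two (z : ℤ) : ((z : ℤ) : F) = if z % 2 == 0 then 0 else 1 := by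
  by_cases h : z % 2 = 0
  · rw [if_pos (beq_iff_eq.2 h), CharP.intCast_eq_zero_iff F 2]
    exact Int.dvd_of_emod_eq_zero (by exact_mod_cast h)
  · rw [if_neg (fun h' => h (beq_iff_eq.1 h')), ← sub_eq_zero, ← Int.cast_one, ← Int.cast_sub,
      CharP.intCast_eq_zero_iff F 2]
    exact Int.dvd_of_emod_eq_zero (by push_cast; omega)

theorem comm_one {r s : ℕ} (hr : r < 48) (hs : s < 48) (h1 : s ≠ r) (h2 : s ≠ F4.cert.ng r) :
    x1 F s * x1 F r = x1 F r * x1 F s * prodW (x1 F) (oddTerms r s) := by
  apply Subtype.ext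
  have e : ((prodW (x1 F) (oddTerms r s) : ↥(chevF4.group F)) : GL chevF4.Idx F) = wordG chevF4 F (chevF4.commWord F r s 1 1) := by
    rw [prodW, Subgroup.val_list_prod, List.map_map, wordG, ChevalleyDatum.commWord,
      F4.valid.commTerms_eq hr hs, oddTerms, List.map_map, List.map_map]
    induction F4.cert.comm r s with
    | nil => rfl
    | cons x l ih =>
      rw [List.map_cons, List.prod_cons, List.filter_cons]
      simp only [Function.comp_apply, CharTwo.neg_eq, one_pow, mul_one, intCast_two F]
      by_cases h : (x.2.1 % 2 == 0) = true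
      · simp only [h, Bool.not_true, Bool.false_eq_true, if_false, if_true, F4.good.xg_zero, one_mul]
        simpa only [Function.comp_def, CharTwo.neg_eq, one_pow, mul_one, intCast_two F] using ih
      · simp only [Bool.not_eq_true] at h
        simp only [h, Bool.not_false, if_true, Bool.false_eq_true, if_false, List.map_cons, List.prod_cons,
          Function.comp_apply]
        refine congrArg₂ (· * ·) rfl ?_
        simpa only [Function.comp_def, CharTwo.neg_eq, one_pow, mul_one, intCast_two F] using ih
  simp only [Subgroup.coe_mul, e]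
  exact F4.good.xg_comm hr hs h1 (by rw [F4.valid.ng_eq hr]; exact h2) 1 1

theorem x1_mul_self (r : ℕ) : x1 F r * x1 F r = 1 :=
  Subtype.ext (by simp [x1, F4.good.xg_add, CharTwo.add_self_eq_zero, F4.good.xg_zero])

omit [CharP F 2] in
theorem prodW_gw {w : List ℕ} (h : ∀ i ∈ w, i < 24) : prodW (gw F) w = prodW (x1 F) (w.map (24 + ·)) := by
  rw [prodW, prodW, List.map_map]
  exact congrArg List.prod (List.map_congr_left fun i hi => gw_of_lt F (h i hi))

theorem sylRules_rel : ∀ r ∈ sylRules, prodW (gw F) r.1 = prodW (gw F) r.2 := by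
  intro r hr
  have h := List.all_eq_true.1 sylRules_ok r hr
  unfold sylOK at h
  split at h
  · simp only [Bool.and_eq_true, beq_iff_eq, decide_eq_true_eq] at h
    obtain ⟨rfl, h2⟩ := h
    simp [prodW, gw_of_lt F h2, x1_mul_self]
  · rename_i a b b' a' w
    simp only [Bool.and_eq_true, beq_iff_eq, decide_eq_true_eq, Bool.not_eq_true', beq_eq_false_iff_ne] at h
    obtain ⟨⟨⟨⟨⟨e1, e2⟩, hba⟩, ha⟩, hng⟩, hw⟩ := h
    subst a' b'
    have hlt : ∀ i ∈ w, i < 24 := by
      intro i hi
      have : 24 + i ∈ oddTerms (24 + b) (24 + a) := hw ▸ List.mem_map_of_mem hi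
      simp only [oddTerms, List.mem_map, List.mem_filter] at this
      obtain ⟨x, ⟨hx, -⟩, e⟩ := this
      have := F4.valid.comm_lt (show 24 + b < chevF4.nroots by rw [nroots_eq]; omega)
        (show 24 + a < chevF4.nroots by rw [nroots_eq]; omega) hx
      rw [nroots_eq, e] at this
      omega
    rw [show (([a, b], b :: a :: w) : List ℕ × List ℕ).2 = [b, a] ++ w from rfl, Schur.StableCert.prodW_append,
      prodW_gw F hlt, ← hw]
    simp only [prodW, List.map_cons, List.map_nil, List.prod_cons, List.prod_nil, mul_one,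
      gw_of_lt F ha, gw_of_lt F (hba.trans ha)]
    exact comm_one F (by omega) (by omega) (by omega) hng
  · simp at h

theorem fusRules_rel : ∀ r ∈ fusRules, prodW (gw F) r.1 = prodW (gw F) r.2 := by
  intro r hr
  have h := List.all_eq_true.1 fusRules_ok r hr
  unfold fusOK at h
  split at h
  · rename_i m i i' m'
    simp only [Bool.and_eq_true, beq_iff_eq, decide_eq_true_eq] at h
    obtain ⟨⟨⟨⟨⟨e1, h1⟩, h2⟩, h3⟩, h4⟩, hw⟩ := h
    subst m'
    simp only [prodW, List.map_cons, List.map_nil, List.prod_cons, List.prod_nil, mul_one,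
      gw_of_lt F h3, gw_of_lt F h4, gw_of_le F h1]
    refine Subtype.ext ?_
    obtain ⟨η, hη, hx⟩ := F4.good.exists_sign_xg (F := F) (i := m - 24) (by rw [rank_eq]; omega)
    have he : η (24 + i) = 1 := by
      rcases mul_self_eq_one_iff.1 (hη (24 + i) (by rw [nroots_eq]; omega)).1 with h | h
      · exact h
      · rw [h, CharTwo.neg_eq]
    show nG chevF4 F _ 1 * xg chevF4 F _ 1 = _
    rw [hx _ (by rw [nroots_eq]; omega) 1, he, one_mul,
      F4.valid.w_eq_reflectRoot (by rw [rank_eq]; omega) (by rw [nroots_eq]; omega), hw]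
    rfl
  · simp at h

/-- Rewriting along steps. -/
def rewriteW (rules : List (List ℕ × List ℕ)) : List ℕ → List Schur.StableCert.Step → Option (List ℕ)
  | w, [] => some w
  | w, (q, k, _) :: rest =>
    match rules[k]? with
    | none => none
    | some r =>
      match Schur.StableCert.subst w q r.1 r.2 with
      | none => none
      | some w' => rewriteW rules w' rest

omit [CharP F 2] in
theorem rewriteW_sound {M : Type*} [Monoid M] (g : ℕ → M) {rules : List (List ℕ × List ℕ)}
    (hrel : ∀ r ∈ rules, prodW g r.1 = prodW g r.2) : ∀ (st : List Schur.StableCert.Step) (w z : List ℕ),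
    rewriteW rules w st = some z → prodW g w = prodW g z
  | [], w, z, h => by rw [rewriteW, Option.some.injEq] at h; rw [h]
  | (q, k, fw) :: rest, w, z, h => by
    rw [rewriteW] at h
    split at h
    next => simp at h
    next r hk =>
    split at h
    next => simp at h
    next w' hw' =>
    obtain ⟨hk', rfl⟩ := List.getElem?_eq_some_iff.1 hk
    rw [← rewriteW_sound g hrel rest w' z h]
    simp only [Schur.StableCert.subst] at hw'
    split at hw'
    next ha =>
      rw [beq_iff_eq] at ha
      rw [← Option.some.inj hw']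
      conv_lhs => rw [← List.take_append_drop q w, ← List.take_append_drop rules[k].1.length (w.drop q)]
      rw [ha, List.drop_drop]
      simp only [Schur.StableCert.prodW_append, hrel _ (List.getElem_mem hk'), mul_assoc]
    next => simp at hw'

theorem pairSteps_ok : (rewriteW sylRules (pairU ++ pairV) pairStepsUV).isSome = true ∧
    rewriteW sylRules (pairU ++ pairV) pairStepsUV = rewriteW sylRules (pairV ++ pairU) pairStepsVU := by
  decide +kernel

/-- The chosen pair commutes. -/
theorem pairRule_rel : prodW (gw F) (pairU ++ pairV) = prodW (gw F) (pairV ++ pairU) := by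
  obtain ⟨h1, h2⟩ := pairSteps_ok
  obtain ⟨z, hz⟩ := Option.isSome_iff_exists.1 h1
  exact (rewriteW_sound (gw F) (sylRules_rel F) _ _ _ hz).trans
    (rewriteW_sound (gw F) (sylRules_rel F) _ _ _ (h2.symm.trans hz)).symm

theorem conjSteps_ok : (rewriteW sylRules (pairG ++ pairU) pairStepsGU).isSome = true ∧
    rewriteW sylRules (pairG ++ pairU) pairStepsGU = rewriteW sylRules (pairU ++ pairG) pairStepsUG ∧
    rewriteW sylRules (pairV ++ pairG ++ pairV) pairStepsVGV = some pairG := by
  decide +kernel

/-- An element centralising the first and inverting the second of the pair. -/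
theorem pairG_rel : prodW (gw F) (pairG ++ pairU) = prodW (gw F) (pairU ++ pairG) ∧
    prodW (gw F) (pairV ++ pairG ++ pairV) = prodW (gw F) pairG := by
  obtain ⟨h1, h2, h3⟩ := conjSteps_ok
  obtain ⟨z, hz⟩ := Option.isSome_iff_exists.1 h1
  exact ⟨(rewriteW_sound (gw F) (sylRules_rel F) _ _ _ hz).trans
    (rewriteW_sound (gw F) (sylRules_rel F) _ _ _ (h2.symm.trans hz)).symm,
    rewriteW_sound (gw F) (sylRules_rel F) _ _ _ h3⟩

omit [CharP F 2] in
/-- The positive unipotent subgroup. -/
noncomputable def posU : Subgroup ↥(chevF4.group F) := (chevF4.posUnipotent F).subgroupOf (chevF4.group F)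

variable {F}

theorem closure_gw [Fintype F] (hF : Fintype.card F = 2) : Subgroup.closure (gw F '' Set.Iio 24) = posU F := by
  have hG := F4.good
  have hf := BNSetup.facts_chevF4
  have ht : ∀ t : F, t = 0 ∨ t = 1 := by
    classical
    intro t
    have hu : ({0, 1} : Finset F) = Finset.univ :=
      Finset.eq_univ_of_card _ (by rw [Finset.card_pair zero_ne_one, hF])
    have := Finset.mem_univ t
    rw [← hu] at this
    simpa using this
  apply le_antisymm
  · rw [Subgroup.closure_le]
    rintro _ ⟨i, hi, rfl⟩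
    rw [Set.mem_Iio] at hi
    rw [gw_of_lt F hi, SetLike.mem_coe, posU, Subgroup.mem_subgroupOf, ← BNSetup.data_U hG hf]
    exact RootBN.Data.X_le_U (D := BNSetup.data hG F) (r := ⟨24 + i, by rw [nroots_eq]; omega⟩)
      (show chevF4.nroots / 2 ≤ 24 + i by rw [nroots_eq]; omega) (hG.xg_mem_rootSubgroup _ _)
  · intro g hg
    rw [posU, Subgroup.mem_subgroupOf, ← BNSetup.data_U hG hf] at hg
    suffices h : (BNSetup.data hG F).U ≤
        (Subgroup.closure (gw F '' Set.Iio 24)).map (chevF4.group F).subtype by
      obtain ⟨y, hy, e⟩ := h hg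
      rwa [← Subtype.ext e]
    refine iSup₂_le fun r hr y hy => ?_
    obtain ⟨t, rfl⟩ := (hG.mem_rootSubgroup_iff).1 hy
    rcases ht t with rfl | rfl
    · rw [hG.xg_zero]; exact one_mem _
    · have hr' : 24 ≤ r.val ∧ r.val < 48 := ⟨hr, r.2⟩
      refine ⟨gw F (r.val - 24), Subgroup.subset_closure ⟨_, by rw [Set.mem_Iio]; omega, rfl⟩, ?_⟩
      rw [gw_of_lt F (show r.val - 24 < 24 by omega), show 24 + (r.val - 24) = r.val by omega]
      rfl

omit [CharP F 2] in
theorem card_posU [Fintype F] (hF : Fintype.card F = 2) : Nat.card (posU F) = 2 ^ 24 := by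
  rw [posU, Nat.card_congr (Subgroup.subgroupOfEquivOfLe
    (ChevSylow.posUnipotent_le_group F4.good BNSetup.facts_chevF4 (F := F))).toEquiv,
    BNSetup.card_U BNSetup.facts_chevF4 F4.good, hF]
  rfl

theorem index_posU [Fintype F] : ¬ 2 ∣ (posU F).index := by
  have : Fact (Nat.Prime 2) := ⟨Nat.prime_two⟩
  classical
  obtain ⟨P, hP⟩ := ChevSylow.exists_sylow 2 F4.good BNSetup.facts_chevF4 (F := F)
  rw [posU, ← hP]
  exact P.not_dvd_index

end Cfsg.Agent.F4TwoMult
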