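import Cfsg.Agent.Lib.F4TwoMult.Cover
import Cfsg.Agent.Lib.Schur.PerfectCover

/-!
The commutator form of the cover is invariant under each simple reflection of F₄(2).
-/

set_option autoImplicit false
set_option maxRecDepth 20000

namespace Cfsg.Agent.F4TwoMult

open Cfsg.Lie Cfsg.Agent.Chev
open Schur.StableCert (prodW card_closure_le prodW_append prodW_congr map_prodW prodW_cons)
open scoped commutatorElement

/-- The generator of each simple root. -/
def sgOf (s : ℕ) : ℕ := [9, 3, 1, 0].getD s 0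

/-- Renumbering without that generator. -/
def down (s i : ℕ) : ℕ := if i < sgOf s then i else i - 1

/-- Its inverse. -/
def up (s j : ℕ) : ℕ := if j < sgOf s then j else j + 1

/-- The lift of the reflected generator. -/
def wB (s i : ℕ) : List ℕ :=
  if i < 24 then List.replicate ((signs.getD s []).getD i 0) 24 ++ [(images.getD s []).getD i 0] else [24]

/-- The rules without the simple generator. -/
def oldRules (s : ℕ) : List (List ℕ × List ℕ) :=
  extRules.filter fun r => !(r.1.contains (sgOf s)) && !(r.2.contains (sgOf s))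

/-- Those rules renumbered. -/
def subCert (s : ℕ) : Schur.StableCert.Cert where
  rules := (oldRules s).map fun r => (r.1.map (down s), r.2.map (down s))
  n := 24
  sylRules := ((oldRules s).map fun r => (r.1.map (down s), r.2.map (down s))).length
  eqs := []
  adj := []
  sel := []
  extra := []

theorem subCert_shape : ∀ s < 4, (subCert s).shape 2 = true := by decide +kernel

/-- The lifted images satisfy the rules. -/
theorem image_rules_ok : ∀ s < 4, (oldRules s).all
    (fun r => wordsEq (r.1.flatMap (wB s), r.2.flatMap (wB s))) = true := by decide +kernel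

theorem oldRules_lt : ∀ s < 4, ∀ r ∈ oldRules s, (∀ i ∈ r.1, i < 25 ∧ i ≠ sgOf s) ∧
    ∀ i ∈ r.2, i < 25 ∧ i ≠ sgOf s := by decide +kernel

theorem images_check : ∀ s < 4, ∀ i < 24, (i == sgOf s ||
    (decide ((images.getD s []).getD i 0 < 24) &&
      fusRules.contains ([24 + s, i], [(images.getD s []).getD i 0, 24 + s]))) = true := by
  decide +kernel

theorem images_ok (s : ℕ) (hs : s < 4) (i : ℕ) (hi : i < 24) (hne : i ≠ sgOf s) :
    (images.getD s []).getD i 0 < 24 ∧ ([24 + s, i], [(images.getD s []).getD i 0, 24 + s]) ∈ fusRules := by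
  have h := images_check s hs i hi
  simpa [hne] using h

theorem k2_cases : ∀ t : K2, t = 0 ∨ t = 1 := by decide

theorem wB_lt : ∀ s < 4, ∀ i < 25, i ≠ sgOf s → ∀ j ∈ wB s i, j < 25 := by decide +kernel

theorem sgOf_lt : ∀ s < 4, sgOf s < 23 ∧ sgOf s < 24 := by decide

theorem simple_eq : ∀ s < 4, chevF4.simple s = 24 + sgOf s := by decide +kernel

theorem up_down {s i : ℕ} (h : i ≠ sgOf s) : up s (down s i) = i := by
  unfold up down
  rcases Nat.lt_or_ge i (sgOf s) with h' | h'
  · rw [if_pos h', if_pos h']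
  · rw [if_neg (Nat.not_lt.2 h'), if_neg (by omega)]; omega

theorem up_props {s j : ℕ} (hs : s < 4) (hj : j < 24) : up s j < 25 ∧ up s j ≠ sgOf s := by
  have := (sgOf_lt s hs).1
  unfold up
  split <;> omega

theorem gx_image {s : ℕ} (hs : s < 4) {i : ℕ} (hi : i < 25) (hne : i ≠ sgOf s) :
    prodW gx (wB s i) = MulAut.conj (n1 K2 s) (gx i) := by
  have h24 : gx 24 = 1 := if_neg (lt_irrefl _)
  unfold wB
  by_cases h : i < 24
  · obtain ⟨him, hmem⟩ := images_ok s hs i h hne
    rw [if_pos h, prodW_append, show prodW gx (List.replicate _ 24) = 1 by simp [prodW, h24], one_mul]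
    have := fusRules_rel K2 _ hmem
    simp only [prodW, List.map_cons, List.map_nil, List.prod_cons, List.prod_nil, mul_one,
      gw_of_le K2 (show 24 ≤ 24 + s by omega), Nat.add_sub_cancel_left] at this
    simp only [prodW, List.map_cons, List.map_nil, List.prod_cons, List.prod_nil, mul_one, gx_of_lt h, gx_of_lt him,
      MulAut.conj_apply]
    rw [this, mul_inv_cancel_right]
  · rw [if_neg h, show i = 24 by omega]
    simp [prodW, h24]

theorem prodW_flatMap {E : Type} [Monoid E] (g : ℕ → E) (f : ℕ → List ℕ) (w : List ℕ) :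
    prodW g (w.flatMap f) = prodW (fun i => prodW g (f i)) w := by
  induction w with
  | nil => rfl
  | cons i w ih => rw [List.flatMap_cons, prodW_append, prodW_cons, ih]

/-- A generator paired with the lift of its image. -/
noncomputable def gP (s j : ℕ) : (Equiv.Perm (Fin 16) × G2el) × (Equiv.Perm (Fin 16) × G2el) :=
  (gE (up s j), prodW gE (wB s (up s j)))

theorem gP_rel {s : ℕ} (hs : s < 4) : ∀ r ∈ (subCert s).rules, prodW (gP s) r.1 = prodW (gP s) r.2 := by
  intro r hr
  obtain ⟨r, hr', rfl⟩ := List.mem_map.1 hr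
  obtain ⟨h1, h2⟩ := oldRules_lt s hs r hr'
  have hext : r ∈ extRules := List.mem_of_mem_filter hr'
  let gQ : ℕ → (Equiv.Perm (Fin 16) × G2el) × (Equiv.Perm (Fin 16) × G2el) := fun i => (gE i, prodW gE (wB s i))
  have e : ∀ w : List ℕ, (∀ i ∈ w, i < 25 ∧ i ≠ sgOf s) → prodW (gP s) (w.map (down s)) = prodW gQ w := fun w hw => by
    rw [prodW, prodW, List.map_map]
    refine congrArg List.prod (List.map_congr_left fun i hi => ?_)
    simp only [Function.comp_apply, gP, up_down (hw i hi).2, gQ]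
  have e1 : ∀ w, prodW gQ w = (prodW gE w, prodW gE (w.flatMap (wB s))) := fun w =>
    Prod.ext (map_prodW (MonoidHom.fst _ _) gQ w)
      ((map_prodW (MonoidHom.snd _ _) gQ w).trans (prodW_flatMap gE (wB s) w).symm)
  rw [e _ h1, e _ h2, e1, e1, gE_rel r hext, prodW_gE (r.1.flatMap _), prodW_gE (r.2.flatMap _),
    prodW_pm_eq (List.all_eq_true.1 (image_rules_ok s hs) r hr')]
  have ex : ∀ w : List ℕ, (∀ i ∈ w, i < 25 ∧ i ≠ sgOf s) →
      prodW gx (w.flatMap (wB s)) = MulAut.conj (n1 K2 s) (prodW gx w) := fun w hw => by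
    rw [prodW_flatMap]
    refine (prodW_congr w fun i hi => ?_).trans (map_prodW (MulAut.conj (n1 K2 s)).toMonoidHom gx w).symm
    exact gx_image hs (hw i hi).1 (hw i hi).2
  rw [ex _ h1, ex _ h2, gx_rel r hext]

/-- The graph of the reflection on the lifts. -/
noncomputable def graph (s : ℕ) : Subgroup ((Equiv.Perm (Fin 16) × G2el) × (Equiv.Perm (Fin 16) × G2el)) :=
  Subgroup.closure (gP s '' Set.Iio 24)

theorem card_graph_le {s : ℕ} (hs : s < 4) : Nat.card (graph s) ≤ 2 ^ 24 :=
  card_closure_le (gP s) two_pos (shape_hyps (subCert_shape s hs) (gP_rel hs)).1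
    (shape_hyps (subCert_shape s hs) (gP_rel hs)).2

theorem graph_mem {s : ℕ} (hs : s < 4) {γ} (h : γ ∈ graph s) :
    γ.1 ∈ LU ∧ γ.2 ∈ LU ∧ γ.2.2 = MulAut.conj (n1 K2 s) γ.1.2 := by
  induction h using Subgroup.closure_induction with
  | mem x hx =>
    obtain ⟨j, hj, rfl⟩ := hx
    obtain ⟨hu, hne⟩ := up_props hs (Set.mem_Iio.1 hj)
    refine ⟨gE_mem hu, Schur.StableCert.prodW_mem LU gE _ fun i hi => gE_mem (wB_lt s hs _ hu hne i hi), ?_⟩
    show (prodW gE (wB s (up s j))).2 = _
    rw [prodW_gE]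
    exact gx_image hs hu hne
  | one => exact ⟨LU.one_mem, LU.one_mem, by simp⟩
  | mul x y _ _ hx hy =>
    exact ⟨LU.mul_mem hx.1 hy.1, LU.mul_mem hx.2.1 hy.2.1, by
      rw [Prod.snd_mul, Prod.snd_mul, hx.2.2, hy.2.2, Prod.fst_mul, Prod.snd_mul, map_mul]⟩
  | inv x _ hx =>
    exact ⟨LU.inv_mem hx.1, LU.inv_mem hx.2.1, by
      rw [Prod.snd_inv, Prod.snd_inv, hx.2.2, Prod.fst_inv, Prod.snd_inv, map_inv]⟩

/-- The positive root subgroups other than the simple one. -/
noncomputable def radU (s : ℕ) : Subgroup G2el :=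
  Subgroup.closure (gw K2 '' {i | i < 24 ∧ i ≠ sgOf s})

theorem gx_up {s i : ℕ} (hs : s < 4) (hi : i < 24) (hne : i ≠ sgOf s) :
    down s i < 23 ∧ gE (up s (down s i)) = gE i := by
  refine ⟨?_, by rw [up_down hne]⟩
  have := (sgOf_lt s hs).1
  unfold down
  split <;> omega

theorem card_radU_le {s : ℕ} (hs : s < 4) : Nat.card (posU K2) ≤ 2 * Nat.card (radU s) := by
  set x := gw K2 (sgOf s)
  have hxx : x * x = 1 := by
    show gw K2 (sgOf s) * gw K2 (sgOf s) = 1
    rw [gw_of_lt K2 (sgOf_lt s hs).2, x1_mul_self]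
  let F : Fin 2 × radU s → G2el := fun a => x ^ (a.1 : ℕ) * a.2
  have hG := F4.good
  have hf := BNSetup.facts_chevF4
  suffices h : (posU K2 : Set G2el) ⊆ Set.range F by
    have := (Nat.card_mono (Set.finite_range F) h).trans (Finite.card_range_le F)
    rwa [Nat.card_prod, Nat.card_fin] at this
  intro g hg
  rw [SetLike.mem_coe, posU, Subgroup.mem_subgroupOf, ← BNSetup.data_U hG hf] at hg
  obtain ⟨y, hy, v, hv, e⟩ := RootBN.Data.U_eq_mul (BNSetup.axioms hG hf)
    (⟨s, by rw [rank_eq]; exact hs⟩ : Fin chevF4.rank) hg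
  have hle : (BNSetup.data hG K2).Urad ⟨s, by rw [rank_eq]; exact hs⟩ ≤
      (radU s).map (chevF4.group K2).subtype := iSup₂_le fun r hr z hz => by
    obtain ⟨t, rfl⟩ := (hG.mem_rootSubgroup_iff).1 hz
    obtain rfl | rfl := k2_cases t
    · rw [hG.xg_zero]; exact one_mem _
    have h24 : 24 ≤ r.val := hr.1
    have h48 : r.val < 48 := r.2
    refine ⟨gw K2 (r.val - 24), Subgroup.subset_closure ⟨r.val - 24, ⟨by omega, fun h => hr.2 (Fin.ext ?_)⟩, rfl⟩, ?_⟩
    · show r.val = chevF4.simple s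
      rw [simple_eq s hs]; omega
    · rw [gw_of_lt K2 (show r.val - 24 < 24 by omega), show 24 + (r.val - 24) = r.val by omega]
      rfl
  obtain ⟨v', hv', rfl⟩ := hle hv
  obtain ⟨t, rfl⟩ := (hG.mem_rootSubgroup_iff).1 hy
  have hx : (x : GL chevF4.Idx K2) = xg chevF4 K2 (chevF4.simple s) 1 := by
    show ((gw K2 (sgOf s) : G2el) : GL chevF4.Idx K2) = _
    rw [gw_of_lt K2 (sgOf_lt s hs).2, simple_eq s hs]
    rfl
  obtain rfl | rfl := k2_cases t
  · exact ⟨(0, ⟨v', hv'⟩), Subtype.ext (by rw [e]; simp [F, hG.xg_zero])⟩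
  · exact ⟨(1, ⟨v', hv'⟩), Subtype.ext (by
      rw [e]
      simp only [F, Fin.val_one, pow_one, Subgroup.coe_mul, hx]
      rfl)⟩

/-- Lifts of elements of the radical lie in the graph. -/
theorem exists_graph {s : ℕ} (hs : s < 4) {l : LU} (hl : pLU l ∈ radU s) :
    ∃ γ ∈ graph s, γ.1 = l.1 := by
  set T := (graph s).map (MonoidHom.fst _ _) with hT
  have hzT : gE 24 ∈ T := by
    refine ⟨gP s 23, Subgroup.subset_closure ⟨23, by norm_num, rfl⟩, ?_⟩
    show gE (up s 23) = gE 24
    rw [up, if_neg (by have := (sgOf_lt s hs).1; omega)]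
  have hle : radU s ≤ T.map (MonoidHom.snd _ _) := by
    rw [radU, Subgroup.closure_le]
    rintro _ ⟨i, ⟨hi, hne⟩, rfl⟩
    obtain ⟨hd, he⟩ := gx_up hs hi hne
    exact ⟨gE i, ⟨gP s (down s i), Subgroup.subset_closure ⟨_, show down s i < 24 by omega, rfl⟩, he⟩, gx_of_lt hi⟩
  obtain ⟨a, ha, e⟩ := hle hl
  obtain ⟨γ, hγ, rfl⟩ := id ha
  have haLU : γ.1 ∈ LU := (graph_mem hs hγ).1
  have hk : (⟨γ.1, haLU⟩ : LU)⁻¹ * l ∈ pLU.ker := by
    rw [MonoidHom.mem_ker, map_mul, map_inv, show pLU ⟨γ.1, haLU⟩ = pLU l from e, inv_mul_cancel]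
  rcases eq_zLU_of_mem hk with h | h
  · rw [inv_mul_eq_one] at h
    exact ⟨γ, hγ, congrArg Subtype.val h⟩
  · have h' : T.carrier.Nonempty := ⟨_, T.one_mem⟩
    have : l.1 ∈ T := by
      rw [show l = ⟨γ.1, haLU⟩ * zLU by rw [← h, mul_inv_cancel_left]]
      exact T.mul_mem ha hzT
    exact this

/-- A reflection preserves the commutator of lifts of elements of the radical. -/
theorem invariant_simple {s : ℕ} (hs : s < 4) {l m l' m' : LU} (hlm : Commute (pLU l) (pLU m))
    (hl : pLU l ∈ radU s) (hm : pLU m ∈ radU s) (hl' : pLU l' = n1 K2 s * pLU l * (n1 K2 s)⁻¹)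
    (hm' : pLU m' = n1 K2 s * pLU m * (n1 K2 s)⁻¹) : ⁅l', m'⁆ = ⁅l, m⁆ := by
  have hzLU : ∀ c : LU, c ∈ pLU.ker → c = 1 ∨ c = zLU := fun c hc => eq_zLU_of_mem hc
  have hzmem : (gE 24, gE 24) ∈ graph s := by
    have h : gP s 23 = (gE 24, gE 24) := by
      rw [gP, up, if_neg (by have := (sgOf_lt s hs).1; omega), show wB s (23 + 1) = [24] from rfl]
      simp [prodW]
    exact h ▸ Subgroup.subset_closure ⟨23, by norm_num, rfl⟩
  -- the first projection is injective on the graph
  have hinj : Function.Injective ((MonoidHom.fst _ _).comp (graph s).subtype) := by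
    have hsurj : ((MonoidHom.fst _ _).comp (graph s).subtype).range = (graph s).map (MonoidHom.fst _ _) := by
      rw [MonoidHom.range_comp, Subgroup.range_subtype]
    set T := (graph s).map (MonoidHom.fst _ _)
    have hTU : radU s ≤ T.map (MonoidHom.snd _ _) := by
      intro g hg
      obtain ⟨c, hc⟩ : g ∈ pLU.range := by
        rw [range_pLU, ← closure_gw (F := K2) (ZMod.card 2)]
        exact Subgroup.closure_mono (Set.image_mono fun i hi => hi.1) hg
      obtain ⟨γ, hγ, e⟩ := exists_graph hs (l := c) (hc ▸ hg)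
      exact ⟨γ.1, ⟨γ, hγ, rfl⟩, by rw [e]; exact hc⟩
    let q : T →* G2el := (MonoidHom.snd _ _).comp T.subtype
    have hzT : (⟨gE 24, ⟨_, hzmem, rfl⟩⟩ : T) ∈ q.ker := show gx 24 = 1 from if_neg (lt_irrefl _)
    have hk : 2 ≤ Nat.card q.ker := Nat.succ_le_of_lt ((Subgroup.one_lt_card_iff_ne_bot _).2 fun hb => by
      rw [hb, Subgroup.mem_bot, Subtype.ext_iff] at hzT
      exact zLU_ne_one (Subtype.ext hzT))
    have hr : Nat.card (radU s) ≤ q.ker.index := by
      rw [Subgroup.index_ker]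
      refine Subgroup.card_le_of_le ?_
      show radU s ≤ ((MonoidHom.snd _ _).comp T.subtype).range
      rwa [MonoidHom.range_comp, Subgroup.range_subtype]
    have hT : 2 ^ 24 ≤ Nat.card T := by
      rw [← q.ker.card_mul_index]
      have h1 := card_radU_le hs
      rw [card_posU (F := K2) (ZMod.card 2)] at h1
      exact h1.trans (Nat.mul_le_mul hk hr)
    have h3 := Nat.card_le_card_of_surjective _
      (MonoidHom.rangeRestrict_surjective ((MonoidHom.fst _ _).comp (graph s).subtype))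
    have hb := (Nat.bijective_iff_surjective_and_card
      ((MonoidHom.fst _ _).comp (graph s).subtype).rangeRestrict).2 ⟨MonoidHom.rangeRestrict_surjective _,
        le_antisymm ((card_graph_le hs).trans (by rw [hsurj]; exact hT)) h3⟩
    intro a b e
    exact hb.1 (Subtype.ext e)
  obtain ⟨α, hα, eα⟩ := exists_graph hs hl
  obtain ⟨β, hβ, eβ⟩ := exists_graph hs hm
  obtain ⟨-, hα2, eα2⟩ := graph_mem hs hα
  obtain ⟨-, hβ2, eβ2⟩ := graph_mem hs hβ
  rw [Schur.commutator_congr (σ := pLU) ker_le_center (a := l') (a' := ⟨α.2, hα2⟩) (b := m') (b' := ⟨β.2, hβ2⟩)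
    (by rw [hl']; show _ = α.2.2; rw [eα2, eα]; rfl) (by rw [hm']; show _ = β.2.2; rw [eβ2, eβ]; rfl)]
  have hmem : ⁅α, β⁆ ∈ graph s := by
    rw [commutatorElement_def]; exact mul_mem (mul_mem (mul_mem hα hβ) (inv_mem hα)) (inv_mem hβ)
  have e1 : (⁅α, β⁆ : (_ × _)).1 = (⁅l, m⁆ : LU).1 := by
    simp only [commutatorElement_def, Prod.fst_mul, Prod.fst_inv, eα, eβ]
    rfl
  have hk : ⁅l, m⁆ ∈ pLU.ker := by
    rw [MonoidHom.mem_ker, map_commutatorElement]; exact commutatorElement_eq_one_iff_commute.2 hlm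
  refine Subtype.ext ?_
  show (⁅α, β⁆ : (_ × _)).2 = _
  rcases hzLU _ hk with h | h <;> rw [h] at e1 ⊢
  · have : (⟨⁅α, β⁆, hmem⟩ : graph s) = 1 := hinj (by simpa using e1)
    exact congrArg (fun x : graph s => x.1.2) this
  · have : (⟨⁅α, β⁆, hmem⟩ : graph s) = ⟨(gE 24, gE 24), hzmem⟩ := hinj (by simpa [zLU] using e1)
    exact congrArg (fun x : graph s => x.1.2) this

end Cfsg.Agent.F4TwoMult
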